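/-
helper17, S5401: the "rack lemma".  A group `A` generated by an injective family `y : J → A` which is closed under
conjugation acts on `J`; the kernel is the centre and the image is the permutation group generated by the conjugation
tables `σ s` of a generating subfamily `S`.  Two groups realising the same tables have isomorphic central quotients.
-/
import Mathlib

set_option autoImplicit false

namespace Cfsg.Agent.Lib.H17.FT

open Subgroup

universe u v w

/-- A conjugation-closed generating family realising the rack data `(S, σ)` in the group `A`: only the tables `σ s`,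
`s ∈ S`, are prescribed; `conn` says that every index is reached from `S` by the group generated by these tables. -/
structure RackFam (A : Type u) [Group A] (J : Type w) (S : Set J) (σ : J → Equiv.Perm J) where
  y : J → A
  inj : Function.Injective y
  conj : ∀ s ∈ S, ∀ j, y s * y j * (y s)⁻¹ = y (σ s j)
  gen : Subgroup.closure (Set.range y) = ⊤
  conn : ∀ j, ∃ π ∈ Subgroup.closure (σ '' S), ∃ s ∈ S, π s = j

namespace RackFam

variable {A : Type u} [Group A] {B : Type v} [Group B] {J : Type w} {S : Set J} {σ : J → Equiv.Perm J}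
variable (R : RackFam A J S σ)

theorem conj_inv (s : J) (hs : s ∈ S) (j : J) : (R.y s)⁻¹ * R.y j * R.y s = R.y ((σ s)⁻¹ j) := by
  have h := R.conj s hs ((σ s)⁻¹ j)
  have e : (σ s) ((σ s)⁻¹ j) = j := by simp
  rw [e] at h
  rw [← h]; group

theorem exists_conj_of_mem (π : Equiv.Perm J) (hπ : π ∈ closure (σ '' S)) :
    ∃ a ∈ closure (R.y '' S), ∀ j, R.y (π j) = a * R.y j * a⁻¹ := by
  induction hπ using closure_induction with
  | mem x hx =>
    obtain ⟨s, hs, rfl⟩ := hx
    exact ⟨R.y s, subset_closure ⟨s, hs, rfl⟩, fun j => (R.conj s hs j).symm⟩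
  | one => exact ⟨1, one_mem _, fun j => by simp⟩
  | mul x y _ _ hx hy =>
    obtain ⟨a, ha, hxa⟩ := hx
    obtain ⟨b, hb, hyb⟩ := hy
    refine ⟨a * b, mul_mem ha hb, fun j => ?_⟩
    rw [Equiv.Perm.mul_apply, hxa, hyb]; group
  | inv x _ hx =>
    obtain ⟨a, ha, hxa⟩ := hx
    refine ⟨a⁻¹, inv_mem ha, fun j => ?_⟩
    have h := hxa (x⁻¹ j)
    have e : x (x⁻¹ j) = j := by simp
    rw [e] at h
    rw [h]; group

theorem y_mem_closure_S (j : J) : R.y j ∈ closure (R.y '' S) := by
  obtain ⟨π, hπ, s, hs, rfl⟩ := R.conn j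
  obtain ⟨a, ha, h⟩ := R.exists_conj_of_mem π hπ
  rw [h s]
  exact mul_mem (mul_mem ha (subset_closure ⟨s, hs, rfl⟩)) (inv_mem ha)

theorem closure_S : closure (R.y '' S) = ⊤ := by
  rw [eq_top_iff, ← R.gen, closure_le]
  rintro _ ⟨j, rfl⟩
  exact R.y_mem_closure_S j

theorem normalizes (a : A) :
    (∀ j, ∃ j', a * R.y j * a⁻¹ = R.y j') ∧ (∀ j, ∃ j', a⁻¹ * R.y j * a = R.y j') := by
  have ha : a ∈ closure (R.y '' S) := by rw [R.closure_S]; trivial
  induction ha using closure_induction with
  | mem x hx =>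
    obtain ⟨s, hs, rfl⟩ := hx
    exact ⟨fun j => ⟨_, R.conj s hs j⟩, fun j => ⟨_, R.conj_inv s hs j⟩⟩
  | one => exact ⟨fun j => ⟨j, by simp⟩, fun j => ⟨j, by simp⟩⟩
  | mul x y _ _ hx hy =>
    refine ⟨fun j => ?_, fun j => ?_⟩
    · obtain ⟨j1, h1⟩ := hy.1 j
      obtain ⟨j2, h2⟩ := hx.1 j1
      refine ⟨j2, ?_⟩
      rw [← h2, ← h1]; group
    · obtain ⟨j1, h1⟩ := hx.2 j
      obtain ⟨j2, h2⟩ := hy.2 j1
      refine ⟨j2, ?_⟩
      rw [← h2, ← h1]; group
  | inv x _ hx =>
    refine ⟨fun j => ?_, fun j => ?_⟩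
    · obtain ⟨j1, h1⟩ := hx.2 j
      exact ⟨j1, by rw [← h1]; group⟩
    · obtain ⟨j1, h1⟩ := hx.1 j
      exact ⟨j1, by rw [← h1]; group⟩

/-- The conjugation action on the index set. -/
noncomputable def act (a : A) (j : J) : J := Classical.choose ((R.normalizes a).1 j)

theorem y_act (a : A) (j : J) : R.y (R.act a j) = a * R.y j * a⁻¹ :=
  (Classical.choose_spec ((R.normalizes a).1 j)).symm

theorem act_one (j : J) : R.act 1 j = j := by
  apply R.inj; rw [R.y_act]; group

theorem act_mul (a b : A) (j : J) : R.act (a * b) j = R.act a (R.act b j) := by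
  apply R.inj; rw [R.y_act, R.y_act, R.y_act]; group

/-- The conjugation action as a homomorphism into the symmetric group of the index set. -/
noncomputable def ρ : A →* Equiv.Perm J where
  toFun a :=
    { toFun := R.act a
      invFun := R.act a⁻¹
      left_inv := fun j => by rw [← R.act_mul, inv_mul_cancel, R.act_one]
      right_inv := fun j => by rw [← R.act_mul, mul_inv_cancel, R.act_one] }
  map_one' := by ext j; exact R.act_one j
  map_mul' a b := by ext j; exact R.act_mul a b j

theorem ρ_apply (a : A) (j : J) : R.y (R.ρ a j) = a * R.y j * a⁻¹ := R.y_act a j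

theorem ρ_eq_of_forall (a : A) (π : Equiv.Perm J) (h : ∀ j, R.y (π j) = a * R.y j * a⁻¹) : R.ρ a = π := by
  ext j; apply R.inj; rw [R.ρ_apply, h]

theorem ρ_y (s : J) (hs : s ∈ S) : R.ρ (R.y s) = σ s :=
  R.ρ_eq_of_forall _ _ fun j => (R.conj s hs j).symm

theorem ker_ρ : R.ρ.ker = center A := by
  ext a
  rw [MonoidHom.mem_ker, Subgroup.mem_center_iff]
  constructor
  · intro h b
    have hb : b ∈ closure (Set.range R.y) := by rw [R.gen]; trivial
    have hc : ∀ j, a * R.y j * a⁻¹ = R.y j := by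
      intro j; rw [← R.ρ_apply, h]; rfl
    have : b ∈ Subgroup.centralizer {a} := by
      refine (closure_le (K := Subgroup.centralizer {a})).mpr ?_ hb
      rintro _ ⟨j, rfl⟩
      rw [SetLike.mem_coe, Subgroup.mem_centralizer_iff]
      intro x hx
      rw [Set.mem_singleton_iff] at hx
      subst hx
      have := hc j
      calc x * R.y j = (x * R.y j * x⁻¹) * x := by group
        _ = R.y j * x := by rw [this]
    rw [Subgroup.mem_centralizer_iff] at this
    exact (this a rfl).symm
  · intro h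
    apply R.ρ_eq_of_forall
    intro j
    rw [Equiv.Perm.one_apply, ← h (R.y j)]; group

theorem range_ρ : R.ρ.range = closure (σ '' S) := by
  rw [MonoidHom.range_eq_map, ← R.closure_S, MonoidHom.map_closure]
  congr 1
  ext π
  constructor
  · rintro ⟨_, ⟨s, hs, rfl⟩, rfl⟩
    exact ⟨s, hs, (R.ρ_y s hs).symm⟩
  · rintro ⟨s, hs, rfl⟩
    exact ⟨R.y s, ⟨s, hs, rfl⟩, R.ρ_y s hs⟩

/-- `A ⧸ Z(A)` is the permutation group generated by the tables. -/
noncomputable def quotEquiv : A ⧸ center A ≃* ↥(closure (σ '' S)) :=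
  ((QuotientGroup.quotientMulEquivOfEq R.ker_ρ.symm).trans
    (QuotientGroup.quotientKerEquivRange R.ρ)).trans (MulEquiv.subgroupCongr R.range_ρ)

theorem quotEquiv_mk (a : A) : ((R.quotEquiv (QuotientGroup.mk a) : ↥(closure (σ '' S))) : Equiv.Perm J) = R.ρ a :=
  rfl

theorem ρ_y_conj (π : Equiv.Perm J) (hπ : π ∈ closure (σ '' S)) (j : J) :
    R.ρ (R.y (π j)) = π * R.ρ (R.y j) * π⁻¹ := by
  obtain ⟨a, _, h⟩ := R.exists_conj_of_mem π hπ
  have hρ : R.ρ a = π := R.ρ_eq_of_forall a π h
  rw [h j, map_mul, map_mul, map_inv, hρ]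

/-- Two realisations of the same tables induce the same permutation for every member of the family. -/
theorem ρ_y_eq (R' : RackFam B J S σ) (j : J) : R.ρ (R.y j) = R'.ρ (R'.y j) := by
  obtain ⟨π, hπ, s, hs, rfl⟩ := R.conn j
  rw [R.ρ_y_conj π hπ, R'.ρ_y_conj π hπ, R.ρ_y s hs, R'.ρ_y s hs]

/-- Two groups realising the same tables have isomorphic central quotients. -/
noncomputable def isoOfTables (R' : RackFam B J S σ) : A ⧸ center A ≃* B ⧸ center B :=
  R.quotEquiv.trans R'.quotEquiv.symm

end RackFam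

end Cfsg.Agent.Lib.H17.FT
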