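/-
helper17, S5401: the sum of squares as a quadratic form over the field with three elements.
-/
import Mathlib
import Cfsg.Prelude.Def_FischerSpaces

set_option autoImplicit false

namespace Cfsg.Agent.Lib.H17.FT

/-- the sum of `n` squares -/
noncomputable def sumSq (n : ℕ) : QuadraticForm (ZMod 3) (Fin n → ZMod 3) :=
  QuadraticMap.weightedSumSquares (ZMod 3) (fun _ : Fin n => (1 : ZMod 3))

theorem sumSq_apply (n : ℕ) (v : Fin n → ZMod 3) : sumSq n v = ∑ i, v i * v i := by
  unfold sumSq
  rw [QuadraticMap.weightedSumSquares_apply]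
  simp

theorem sumSq_polar (n : ℕ) (v w : Fin n → ZMod 3) :
    QuadraticMap.polar (⇑(sumSq n)) v w = 2 * ∑ i, v i * w i := by
  unfold QuadraticMap.polar
  rw [sumSq_apply, sumSq_apply, sumSq_apply, Finset.mul_sum, ← Finset.sum_sub_distrib,
    ← Finset.sum_sub_distrib]
  apply Finset.sum_congr rfl
  intro i _
  simp only [Pi.add_apply]
  ring

theorem sumSq_nondeg (n : ℕ) : (QuadraticMap.polarBilin (sumSq n)).Nondegenerate := by
  have key : ∀ v : Fin n → ZMod 3, (∀ w, QuadraticMap.polar (⇑(sumSq n)) v w = 0) → v = 0 := by
    intro v hv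
    funext i
    have h := hv (Pi.single i 1)
    rw [sumSq_polar] at h
    have h2 : ∑ j, v j * (Pi.single i (1 : ZMod 3) : Fin n → ZMod 3) j = v i := by
      rw [Finset.sum_eq_single i]
      · simp
      · intro j _ hj
        simp [Pi.single_apply, hj]
      · intro h; exact absurd (Finset.mem_univ i) h
    rw [h2] at h
    show v i = 0
    generalize v i = a at h
    revert a; decide
  constructor
  · intro v hv
    exact key v (fun w => hv w)
  · intro v hv
    apply key v
    intro w
    rw [QuadraticMap.polar_comm]
    exact hv w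

theorem sumSq_gram (n : ℕ) : Cfsg.polarGramDet (⇑(sumSq n)) = 2 ^ n := by
  unfold Cfsg.polarGramDet
  have : (Matrix.of fun i j : Fin n =>
      QuadraticMap.polar (⇑(sumSq n)) (Pi.single i 1) (Pi.single j 1)) =
      Matrix.diagonal (fun _ : Fin n => (2 : ZMod 3)) := by
    ext i j
    rw [Matrix.of_apply, sumSq_polar, Matrix.diagonal_apply]
    by_cases hij : i = j
    · subst hij
      rw [if_pos rfl, Finset.sum_eq_single i]
      · simp
      · intro k _ hk
        simp [Pi.single_apply, hk]
      · intro h; exact absurd (Finset.mem_univ i) h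
    · rw [if_neg hij]
      have : ∑ k, (Pi.single i (1 : ZMod 3) : Fin n → ZMod 3) k *
          (Pi.single j (1 : ZMod 3) : Fin n → ZMod 3) k = 0 := by
        apply Finset.sum_eq_zero
        intro k _
        by_cases hk : k = i
        · subst hk
          simp [Pi.single_apply, hij]
        · simp [Pi.single_apply, hk]
      rw [this, mul_zero]
  rw [this, Matrix.det_diagonal]
  simp

end Cfsg.Agent.Lib.H17.FT
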