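/-
helper17, S5401: counting by kernel computation, and two facts about the symmetric group of degree three.
-/
import Mathlib
import Cfsg.Agent.Lib.H17.CosetCert

set_option autoImplicit false

namespace Cfsg.Agent.Lib.H17.FT

open Cfsg.Agent.Lib.H17.CosetCert

/-- `acc` plus the number of `k < n` with `P (lo + k) = true` -/
noncomputable def cntA (P : ℕ → Bool) (lo : ℕ) (n : ℕ) : ℕ → ℕ :=
  Nat.rec (motive := fun _ => ℕ → ℕ) (fun acc => acc)
    (fun k ih acc => force (cond (P (Nat.add lo k)) (Nat.succ acc) acc) ih) n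

theorem cntA_succ (P : ℕ → Bool) (lo n acc : ℕ) :
    cntA P lo (n + 1) acc = cntA P lo n (cond (P (lo + n)) (acc + 1) acc) := by
  show force (cond (P (Nat.add lo n)) (Nat.succ acc) acc) (cntA P lo n) = _
  rw [force_eq]
  rfl

theorem cntA_eq (P : ℕ → Bool) (lo n acc : ℕ) :
    cntA P lo n acc = acc + ((Finset.range n).filter (fun k => P (lo + k) = true)).card := by
  induction n generalizing acc with
  | zero => simp [cntA]
  | succ n ih =>
    rw [cntA_succ, ih, Finset.range_add_one, Finset.filter_insert]
    cases h : P (lo + n) with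
    | true =>
      rw [if_pos rfl, Finset.card_insert_of_notMem (by simp)]
      simp only [cond_true]
      omega
    | false =>
      rw [if_neg (by simp)]
      simp only [cond_false]

/-- the number of `k < lo + n` with `P k` is the number of `k < lo` plus the count on the chunk -/
theorem card_filter_add (P : ℕ → Bool) (lo n : ℕ) :
    ((Finset.range (lo + n)).filter (fun k => P k = true)).card =
      ((Finset.range lo).filter (fun k => P k = true)).card + cntA P lo n 0 := by
  rw [cntA_eq, zero_add, Finset.range_eq_Ico, ← Finset.Ico_union_Ico_eq_Ico (Nat.zero_le lo) (Nat.le_add_right lo n),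
    Finset.filter_union, Finset.card_union_of_disjoint]
  · congr 1
    rw [← Finset.range_eq_Ico]
    apply Finset.card_bij (fun k _ => k - lo)
    · intro k hk
      rw [Finset.mem_filter, Finset.mem_Ico] at hk
      rw [Finset.mem_filter, Finset.mem_range]
      refine ⟨by omega, ?_⟩
      have : lo + (k - lo) = k := by omega
      rw [this]
      exact hk.2
    · intro a ha b hb hab
      rw [Finset.mem_filter, Finset.mem_Ico] at ha hb
      omega
    · intro k hk
      rw [Finset.mem_filter, Finset.mem_range] at hk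
      refine ⟨lo + k, ?_, by omega⟩
      rw [Finset.mem_filter, Finset.mem_Ico]
      exact ⟨by omega, hk.2⟩
  · apply Finset.disjoint_filter_filter
    exact Finset.Ico_disjoint_Ico_consecutive 0 lo (lo + n)

theorem card_subtype_eq (P : ℕ → Bool) (N : ℕ) :
    Nat.card {i : Fin N // P i = true} = ((Finset.range N).filter (fun k => P k = true)).card := by
  rw [Nat.card_eq_fintype_card, Fintype.card_subtype]
  apply Finset.card_bij (fun (i : Fin N) _ => (i : ℕ))
  · intro i hi
    rw [Finset.mem_filter] at hi
    rw [Finset.mem_filter, Finset.mem_range]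
    exact ⟨i.2, hi.2⟩
  · intro a _ b _ hab
    exact Fin.ext hab
  · intro k hk
    rw [Finset.mem_filter, Finset.mem_range] at hk
    exact ⟨⟨k, hk.1⟩, by rw [Finset.mem_filter]; exact ⟨Finset.mem_univ _, hk.2⟩, rfl⟩

/-! ## The symmetric group of degree three -/

theorem perm3_eq_one : ∀ π : Equiv.Perm (Fin 3), π 0 = 0 → Equiv.Perm.sign π = 1 → π = 1 := by
  decide

theorem perm3_gen : ∀ π : Equiv.Perm (Fin 3),
    π ∈ Subgroup.closure {Equiv.swap (0 : Fin 3) 1, Equiv.swap (1 : Fin 3) 2} := by
  have ha : Equiv.swap (0 : Fin 3) 1 ∈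
      Subgroup.closure {Equiv.swap (0 : Fin 3) 1, Equiv.swap (1 : Fin 3) 2} :=
    Subgroup.subset_closure (by simp)
  have hb : Equiv.swap (1 : Fin 3) 2 ∈
      Subgroup.closure {Equiv.swap (0 : Fin 3) 1, Equiv.swap (1 : Fin 3) 2} :=
    Subgroup.subset_closure (by simp)
  have key : ∀ π : Equiv.Perm (Fin 3), π = 1 ∨ π = Equiv.swap 0 1 ∨ π = Equiv.swap 1 2 ∨
      π = Equiv.swap 0 1 * Equiv.swap 1 2 ∨ π = Equiv.swap 1 2 * Equiv.swap 0 1 ∨
      π = Equiv.swap 0 1 * Equiv.swap 1 2 * Equiv.swap 0 1 := by
    decide
  intro π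
  rcases key π with h | h | h | h | h | h <;> rw [h]
  · exact one_mem _
  · exact ha
  · exact hb
  · exact mul_mem ha hb
  · exact mul_mem hb ha
  · exact mul_mem (mul_mem ha hb) ha

end Cfsg.Agent.Lib.H17.FT
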