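/-
helper17, S5401: "transposition systems".  A group `G` acting transitively on `X` such that the stabiliser of the
base point `z` is the centraliser of the element `zel`: the conjugates of `zel` are parametrised by the points,
`t (g • z) = g * zel * g⁻¹`, and conjugation corresponds to the action on the points.  The rack family of the
members of the class commuting with two given non-commuting members.
-/
import Mathlib
import Cfsg.Agent.Lib.H17.FT.Rack

set_option autoImplicit false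

namespace Cfsg.Agent.Lib.H17.FT

open Subgroup

universe u v

structure TSys (G : Type u) [Group G] (X : Type v) [MulAction G X] where
  z : X
  zel : G
  trans : ∀ x : X, ∃ g : G, g • z = x
  stab : ∀ g : G, g • z = z ↔ g * zel = zel * g

namespace TSys

variable {G : Type u} [Group G] {X : Type v} [MulAction G X] (T : TSys G X)

/-- a representative of the coset of a point -/
noncomputable def rep (x : X) : G := Classical.choose (T.trans x)

theorem rep_smul (x : X) : T.rep x • T.z = x := Classical.choose_spec (T.trans x)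

/-- the conjugate of `zel` belonging to a point -/
noncomputable def t (x : X) : G := T.rep x * T.zel * (T.rep x)⁻¹

theorem conj_eq_of_smul_eq (g h : G) (hgh : g • T.z = h • T.z) : g * T.zel * g⁻¹ = h * T.zel * h⁻¹ := by
  have h1 : (h⁻¹ * g) • T.z = T.z := by rw [mul_smul, hgh, inv_smul_smul]
  have h2 := (T.stab _).mp h1
  -- h⁻¹ g zel = zel h⁻¹ g
  have h3 : g * T.zel = h * T.zel * h⁻¹ * g := by
    calc g * T.zel = h * (h⁻¹ * g * T.zel) := by group
      _ = h * (T.zel * (h⁻¹ * g)) := by rw [h2]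
      _ = h * T.zel * h⁻¹ * g := by group
  rw [h3]; group

theorem smul_eq_of_conj_eq (g h : G) (hgh : g * T.zel * g⁻¹ = h * T.zel * h⁻¹) : g • T.z = h • T.z := by
  have h2 : h⁻¹ * g * T.zel = T.zel * (h⁻¹ * g) := by
    calc h⁻¹ * g * T.zel = h⁻¹ * (g * T.zel * g⁻¹) * g := by group
      _ = h⁻¹ * (h * T.zel * h⁻¹) * g := by rw [hgh]
      _ = T.zel * (h⁻¹ * g) := by group
  have h1 := (T.stab _).mpr h2
  calc g • T.z = h • ((h⁻¹ * g) • T.z) := by rw [← mul_smul]; congr 1; group
    _ = h • T.z := by rw [h1]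

theorem t_eq (g : G) : T.t (g • T.z) = g * T.zel * g⁻¹ :=
  T.conj_eq_of_smul_eq _ _ (T.rep_smul _)

theorem t_eq' (g : G) (x : X) (h : g • T.z = x) : T.t x = g * T.zel * g⁻¹ := by
  rw [← h, T.t_eq]

theorem t_z : T.t T.z = T.zel := by
  have := T.t_eq 1
  rw [one_smul] at this
  rw [this]; group

theorem t_smul (g : G) (x : X) : T.t (g • x) = g * T.t x * g⁻¹ := by
  obtain ⟨r, rfl⟩ := T.trans x
  rw [← mul_smul, T.t_eq, T.t_eq]; group

theorem t_inj : Function.Injective T.t := by
  intro x y h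
  have := T.smul_eq_of_conj_eq _ _ h
  rwa [T.rep_smul, T.rep_smul] at this

theorem mem_conj_iff (y : G) : y ∈ conjugatesOf T.zel ↔ ∃ x, T.t x = y := by
  show IsConj T.zel y ↔ _
  rw [isConj_iff]
  constructor
  · rintro ⟨c, rfl⟩
    exact ⟨c • T.z, T.t_eq c⟩
  · rintro ⟨x, rfl⟩
    exact ⟨T.rep x, rfl⟩

theorem t_mem (x : X) : T.t x ∈ conjugatesOf T.zel := (T.mem_conj_iff _).mpr ⟨x, rfl⟩

theorem commute_iff (x y : X) : Commute (T.t x) (T.t y) ↔ T.t x • y = y := by
  constructor
  · intro h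
    apply T.t_inj
    rw [T.t_smul]
    have : T.t x * T.t y = T.t y * T.t x := h
    rw [this]; group
  · intro h
    have h2 := T.t_smul (T.t x) y
    rw [h] at h2
    -- t y = t x * t y * (t x)⁻¹
    show T.t x * T.t y = T.t y * T.t x
    calc T.t x * T.t y = (T.t x * T.t y * (T.t x)⁻¹) * T.t x := by group
      _ = T.t y * T.t x := by rw [← h2]

/-- the members of the class commuting with `t x`, other than `t x` -/
theorem Dd_eq (x : X) :
    {y : G | y ∈ conjugatesOf T.zel ∧ y ≠ T.t x ∧ Commute (T.t x) y} =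
      T.t '' {y : X | y ≠ x ∧ T.t x • y = y} := by
  ext y
  constructor
  · rintro ⟨hy, hne, hc⟩
    obtain ⟨p, rfl⟩ := (T.mem_conj_iff y).mp hy
    refine ⟨p, ⟨fun h => hne (by rw [h]), (T.commute_iff x p).mp hc⟩, rfl⟩
  · rintro ⟨p, ⟨hne, hfix⟩, rfl⟩
    exact ⟨T.t_mem p, fun h => hne (T.t_inj h), (T.commute_iff x p).mpr hfix⟩

theorem DdDc_eq (x x' : X) :
    {y : G | y ∈ conjugatesOf T.zel ∧ y ≠ T.t x ∧ Commute (T.t x) y} ∩
      {y : G | y ∈ conjugatesOf T.zel ∧ y ≠ T.t x' ∧ Commute (T.t x') y} =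
      T.t '' {y : X | y ≠ x ∧ y ≠ x' ∧ T.t x • y = y ∧ T.t x' • y = y} := by
  rw [T.Dd_eq, T.Dd_eq, ← Set.image_inter T.t_inj]
  congr 1
  ext y
  simp only [Set.mem_inter_iff, Set.mem_ofPred_eq]
  tauto

/-- The rack family of the members of the class commuting with both `t x` and `t x'`, other than these. -/
noncomputable def rackFamL (x x' : X) {N : ℕ} (S : Set (Fin N)) (σ : Fin N → Equiv.Perm (Fin N))
    (pt : Fin N → X) (hpt : Function.Injective pt)
    (hrange : ∀ y : X, (y ≠ x ∧ y ≠ x' ∧ T.t x • y = y ∧ T.t x' • y = y) ↔ ∃ j, pt j = y)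
    (htab : ∀ s ∈ S, ∀ j, T.t (pt s) • pt j = pt (σ s j))
    (hconn : ∀ j, ∃ π ∈ Subgroup.closure (σ '' S), ∃ s ∈ S, π s = j) :
    RackFam ↥(Subgroup.closure ({y : G | y ∈ conjugatesOf T.zel ∧ y ≠ T.t x ∧ Commute (T.t x) y} ∩
      {y : G | y ∈ conjugatesOf T.zel ∧ y ≠ T.t x' ∧ Commute (T.t x') y})) (Fin N) S σ where
  y j := ⟨T.t (pt j), Subgroup.subset_closure (by
    rw [T.DdDc_eq]
    exact ⟨pt j, (hrange (pt j)).mpr ⟨j, rfl⟩, rfl⟩)⟩
  inj := by
    intro i j h
    exact hpt (T.t_inj (congrArg Subtype.val h))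
  conj := by
    intro s hs j
    apply Subtype.ext
    show T.t (pt s) * T.t (pt j) * (T.t (pt s))⁻¹ = T.t (pt (σ s j))
    rw [← T.t_smul, htab s hs j]
  gen := by
    have h := Subgroup.closure_closure_coe_preimage
      (k := ({y : G | y ∈ conjugatesOf T.zel ∧ y ≠ T.t x ∧ Commute (T.t x) y} ∩
        {y : G | y ∈ conjugatesOf T.zel ∧ y ≠ T.t x' ∧ Commute (T.t x') y}))
    rw [← h]
    congr 1
    ext ⟨g, hg⟩
    simp only [Set.mem_range, Set.mem_preimage]
    constructor
    · rintro ⟨j, hj⟩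
      have : T.t (pt j) = g := congrArg Subtype.val hj
      rw [T.DdDc_eq]
      exact ⟨pt j, (hrange (pt j)).mpr ⟨j, rfl⟩, this⟩
    · intro hmem
      rw [T.DdDc_eq] at hmem
      obtain ⟨p, hp, rfl⟩ := hmem
      obtain ⟨j, rfl⟩ := (hrange p).mp hp
      exact ⟨j, rfl⟩
  conn := hconn

end TSys

end Cfsg.Agent.Lib.H17.FT
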