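/-
helper17, S5401: rack data from packed row tables (`CosetCert.lk`, `CosetCert.σ`) and the connectivity check.
-/
import Cfsg.Agent.Lib.H17.CosetPerm
import Cfsg.Agent.Lib.H17.FT.Rack

set_option autoImplicit false

namespace Cfsg.Agent.Lib.H17.FT

open Cfsg.Agent.Lib.H17.CosetCert

theorem beq_iff (a b : ℕ) : Nat.beq a b = true ↔ a = b :=
  ⟨Nat.eq_of_beq_eq_true, fun h => by subst h; exact Nat.beq_refl a⟩

theorem blt_iff (a b : ℕ) : Nat.blt a b = true ↔ a < b := by
  unfold Nat.blt
  rw [Nat.ble_eq]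
  omega

theorem beq_false_iff (a b : ℕ) : Nat.beq a b = false ↔ a ≠ b := by
  rw [ne_eq, ← beq_iff, Bool.not_eq_true]

theorem bool_imp {a b : Bool} (h : (!a || b) = true) (ha : a = true) : b = true := by
  subst ha; simpa using h

theorem and3 {a b c : Bool} (h : (a && b && c) = true) : a = true ∧ b = true ∧ c = true := by
  cases a <;> cases b <;> cases c <;> simp_all

section

variable (wb Wm N : ℕ) (rows : List ℕ)

/-- the generating indices: the first `rows.length` ones -/
def SS : Set (Fin N) := {s | s.val < rows.length}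

/-- the table permutations -/
noncomputable def sig (s : Fin N) : Equiv.Perm (Fin N) := σ wb Wm N (rows.getD s.val 0)

theorem getD_mem (i : ℕ) (hi : i < rows.length) : rows.getD i 0 ∈ rows := by
  rw [List.getD_eq_getElem _ _ hi]
  exact List.getElem_mem hi

theorem sig_apply (hgood : ∀ t ∈ rows, Good wb Wm N t) (s : Fin N) (hs : s ∈ SS N rows) (j : Fin N) :
    ((sig wb Wm N rows s j : Fin N) : ℕ) = lk wb Wm (rows.getD s.val 0) j :=
  σ_apply wb Wm N _ (hgood _ (getD_mem rows _ hs)) j

theorem conn_of_check (hN : 0 < N) (hk : 0 < rows.length) (hkN : rows.length ≤ N)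
    (hgood : ∀ t ∈ rows, Good wb Wm N t) (gr : ℕ) (h : checkConn wb Wm gr rows N = true) :
    ∀ j : Fin N, ∃ π ∈ Subgroup.closure (sig wb Wm N rows '' SS N rows), ∃ s ∈ SS N rows, π s = j := by
  have key := trans_of_conn wb Wm N hN
    (Subgroup.subtype (Subgroup.closure (sig wb Wm N rows '' SS N rows))) gr rows hgood
    (by
      intro t ht
      obtain ⟨i, hi, rfl⟩ := List.getElem_of_mem ht
      have hiN : i < N := lt_of_lt_of_le hi hkN
      refine ⟨⟨sig wb Wm N rows ⟨i, hiN⟩, Subgroup.subset_closure ⟨⟨i, hiN⟩, hi, rfl⟩⟩, ?_⟩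
      show sig wb Wm N rows ⟨i, hiN⟩ = _
      unfold sig
      rw [List.getD_eq_getElem _ _ hi]) h
  intro j
  obtain ⟨g, hg⟩ := key j
  exact ⟨g.1, g.2, ⟨0, hN⟩, hk, hg⟩

end

end Cfsg.Agent.Lib.H17.FT
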