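/-
helper17, S5401: the H-part of Fi22.  The transpositions commuting with `a` (other than `a`) generate the whole
centraliser `2.U6(2)` of `a`, whose central quotient is `PSU 6 F4 2`.
-/
import Cfsg.Agent.Lib.H17.FT.Fi22L

set_option autoImplicit false
set_option maxRecDepth 100000

namespace Cfsg.Agent.Lib.H17.FT22

open Cfsg.Spor Cfsg.Agent.Lib.H17.CosetCert Cfsg.Agent.Lib.H17.CoxGlue
  Cfsg.Agent.Lib.H17.Fi22Glue Cfsg.Agent.Lib.H17.Fi22U62 Cfsg.Agent.Lib.H17.Fi22Simple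
  Cfsg.Agent.Lib.H17.Fi22Transp Cfsg.Agent.Lib.H17.FT Cfsg.Agent.Lib.H17.PermActs MulAction
  Cfsg.Agent.Lib.H17.U6Main Cfsg.Agent.Lib.H17.U6Cover

attribute [local instance] Cfsg.Agent.Lib.H17.Fi22Simple.actInst

/-- the transpositions commuting with `a`, other than `a` -/
def Dd : Set G := {y : G | y ∈ conjugatesOf T22.zel ∧ y ≠ T22.t z ∧ Commute (T22.t z) y}

theorem word_mem_Dd (g : List ℕ)
    (hp0 : applyT 12 4096 (Cfsg.Agent.Lib.H17.Fi22Word.tw g).reverse 0 ≠ 0)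
    (hfix : applyT 12 4096 (Cfsg.Agent.Lib.H17.Fi22Word.tw zW).reverse
      (applyT 12 4096 (Cfsg.Agent.Lib.H17.Fi22Word.tw g).reverse 0) =
      applyT 12 4096 (Cfsg.Agent.Lib.H17.Fi22Word.tw g).reverse 0) :
    Cfsg.Agent.Lib.H17.Fi22Word.e (g ++ zW ++ g.reverse) ∈ Dd := by
  unfold Dd
  rw [T22.Dd_eq]
  refine ⟨Cfsg.Agent.Lib.H17.Fi22Word.e g • z, ⟨?_, ?_⟩, ?_⟩
  · intro h
    apply hp0
    have := congrArg Fin.val h
    rw [smul_val] at this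
    exact this
  · rw [t_z]
    apply Fin.ext
    rw [smul_val, smul_val]
    exact hfix
  · rw [Cfsg.Agent.Lib.H17.Fi22Word.e_append,
      Cfsg.Agent.Lib.H17.Fi22Word.e_append, Cfsg.Agent.Lib.H17.Fi22Word.e_reverse]
    exact T22.t_eq (Cfsg.Agent.Lib.H17.Fi22Word.e g)

/-- conjugating words for the generators `c, …, i` -/
def cg : ℕ → List ℕ
  | 0 => [1, 2, 0, 1]
  | 1 => [2, 3, 1, 2, 0, 1]
  | 2 => [3, 4, 2, 3, 1, 2, 0, 1]
  | 3 => [4, 5, 3, 4, 2, 3, 1, 2, 0, 1]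
  | 4 => [5, 6, 4, 5, 3, 4, 2, 3, 1, 2, 0, 1]
  | 5 => [3, 7, 2, 3, 1, 2, 0, 1]
  | _ => [7, 8, 3, 7, 2, 3, 1, 2, 0, 1]

/-- conjugating words for five commuting reflections of `W(D6)` -/
def ug : ℕ → List ℕ
  | 0 => [1, 2, 0, 1]
  | 1 => [3, 4, 2, 3, 1, 2, 0, 1]
  | 2 => [3, 7, 2, 3, 1, 2, 0, 1]
  | 3 => [3, 7, 4, 3, 1, 2, 0, 1]
  | _ => [1, 2, 3, 7, 4, 3, 2, 1]

theorem cg_check : ∀ k < 7,
    applyT 12 4096 (Cfsg.Agent.Lib.H17.Fi22Word.tw (cg k)).reverse 0 ≠ 0 ∧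
    applyT 12 4096 (Cfsg.Agent.Lib.H17.Fi22Word.tw zW).reverse
      (applyT 12 4096 (Cfsg.Agent.Lib.H17.Fi22Word.tw (cg k)).reverse 0) =
      applyT 12 4096 (Cfsg.Agent.Lib.H17.Fi22Word.tw (cg k)).reverse 0 := by
  decide +kernel

theorem ug_check : ∀ k < 5,
    applyT 12 4096 (Cfsg.Agent.Lib.H17.Fi22Word.tw (ug k)).reverse 0 ≠ 0 ∧
    applyT 12 4096 (Cfsg.Agent.Lib.H17.Fi22Word.tw zW).reverse
      (applyT 12 4096 (Cfsg.Agent.Lib.H17.Fi22Word.tw (ug k)).reverse 0) =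
      applyT 12 4096 (Cfsg.Agent.Lib.H17.Fi22Word.tw (ug k)).reverse 0 := by
  decide +kernel

theorem cg_eq : ∀ k < 7, ∀ c ∈ sbase, applyT 12 4096
    (Cfsg.Agent.Lib.H17.Fi22Word.tw (gw k ++ (cg k ++ zW ++ (cg k).reverse).reverse)) c = c := by
  decide +kernel

/-- the word of the transposition of a conjugating word -/
def tr (g : List ℕ) : List ℕ := g ++ zW ++ g.reverse

theorem w8_eq : ∀ c ∈ sbase, applyT 12 4096
    (Cfsg.Agent.Lib.H17.Fi22Word.tw (gw 7 ++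
      (zW ++ (tr (ug 0) ++ (tr (ug 1) ++ (tr (ug 2) ++ (tr (ug 3) ++ tr (ug 4)))))).reverse)) c = c := by
  decide +kernel

theorem hg_mem (k : Fin 8) (hk : k.val < 7) : ((hg k : H) : G) ∈ Subgroup.closure Dd := by
  rw [hg_val]
  have h1 : Cfsg.Agent.Lib.H17.Fi22Word.e (gwF k) =
      Cfsg.Agent.Lib.H17.Fi22Word.e (cg k ++ zW ++ (cg k).reverse) :=
    Cfsg.Agent.Lib.H17.Fi22Word.e_eq_e _ _ (cg_eq k hk)
  rw [h1]
  exact Subgroup.subset_closure (word_mem_Dd _ (cg_check k hk).1 (cg_check k hk).2)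

theorem u_mem (k : ℕ) (hk : k < 5) : Cfsg.Agent.Lib.H17.Fi22Word.e (tr (ug k)) ∈ Subgroup.closure Dd :=
  Subgroup.subset_closure (word_mem_Dd _ (ug_check k hk).1 (ug_check k hk).2)

theorem hg7 : ∃ u ∈ Subgroup.closure Dd, ((hg ⟨7, by decide⟩ : H) : G) = zel * u := by
  refine ⟨Cfsg.Agent.Lib.H17.Fi22Word.e
    (tr (ug 0) ++ (tr (ug 1) ++ (tr (ug 2) ++ (tr (ug 3) ++ tr (ug 4))))), ?_, ?_⟩
  · rw [Cfsg.Agent.Lib.H17.Fi22Word.e_append, Cfsg.Agent.Lib.H17.Fi22Word.e_append,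
      Cfsg.Agent.Lib.H17.Fi22Word.e_append, Cfsg.Agent.Lib.H17.Fi22Word.e_append]
    exact mul_mem (u_mem 0 (by decide)) (mul_mem (u_mem 1 (by decide)) (mul_mem (u_mem 2 (by decide))
      (mul_mem (u_mem 3 (by decide)) (u_mem 4 (by decide)))))
  · rw [hg_val, ← Cfsg.Agent.Lib.H17.Fi22Word.e_append]
    exact Cfsg.Agent.Lib.H17.Fi22Word.e_eq_e _ _ w8_eq

theorem closure_Dd_le : Subgroup.closure Dd ≤ H := by
  rw [Subgroup.closure_le]
  intro y hy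
  rw [← centralizer_zel, SetLike.mem_coe, Subgroup.mem_centralizer_iff]
  intro x hx
  rw [Set.mem_singleton_iff] at hx
  subst hx
  have := hy.2.2
  rw [t_z] at this
  exact this

/-- the central involution as an element of the centraliser -/
noncomputable def zH : H := ⟨zel, by rw [← centralizer_zel, Subgroup.mem_centralizer_iff]; intro x hx; rw [Set.mem_singleton_iff] at hx; rw [hx]⟩

theorem zH_central (h : H) : zH * h = h * zH :=
  Subtype.ext (comm_of_mem_H h.1 h.2)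

theorem zH_sq : zH * zH = 1 := Subtype.ext zel_sq

theorem comm_central {A : Type*} [Group A] (k1 k2 a b : A) (ha : ∀ x, a * x = x * a)
    (hb : ∀ x, b * x = x * b) :
    (k1 * a) * (k2 * b) * (k1 * a)⁻¹ * (k2 * b)⁻¹ = k1 * k2 * k1⁻¹ * k2⁻¹ := by
  rw [mul_inv_rev, mul_inv_rev]
  calc k1 * a * (k2 * b) * (a⁻¹ * k1⁻¹) * (b⁻¹ * k2⁻¹)
      = k1 * (a * k2) * (b * a⁻¹) * k1⁻¹ * b⁻¹ * k2⁻¹ := by group
    _ = k1 * (k2 * a) * (a⁻¹ * b) * k1⁻¹ * b⁻¹ * k2⁻¹ := by rw [ha k2, hb a⁻¹]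
    _ = k1 * k2 * (b * k1⁻¹) * b⁻¹ * k2⁻¹ := by group
    _ = k1 * k2 * (k1⁻¹ * b) * b⁻¹ * k2⁻¹ := by rw [hb k1⁻¹]
    _ = k1 * k2 * k1⁻¹ * k2⁻¹ := by group

theorem decomp (h : H) : ∃ k : H, (k : G) ∈ Subgroup.closure Dd ∧
    ∃ c : H, (∀ x : H, c * x = x * c) ∧ h = k * c := by
  have hh : h ∈ Subgroup.closure (Set.range hg) := by rw [closure_hg]; trivial
  induction hh using Subgroup.closure_induction with
  | mem x hx =>
    obtain ⟨k, rfl⟩ := hx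
    by_cases hk : k.val < 7
    · exact ⟨hg k, hg_mem k hk, 1, fun x => by rw [one_mul, mul_one], (mul_one _).symm⟩
    · have hk7 : k = ⟨7, by decide⟩ := Fin.ext (by have := k.2; simp only []; omega)
      subst hk7
      obtain ⟨u, hu, hval⟩ := hg7
      have huH : u ∈ H := closure_Dd_le hu
      refine ⟨⟨u, huH⟩, hu, zH, zH_central, ?_⟩
      apply Subtype.ext
      rw [hval]
      exact comm_of_mem_H u huH
  | one => exact ⟨1, one_mem _, 1, fun x => by rw [one_mul, mul_one], (mul_one _).symm⟩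
  | mul x y _ _ hx hy =>
    obtain ⟨k1, hk1, c1, hc1, rfl⟩ := hx
    obtain ⟨k2, hk2, c2, hc2, rfl⟩ := hy
    refine ⟨k1 * k2, mul_mem hk1 hk2, c1 * c2, fun x => ?_, ?_⟩
    · rw [mul_assoc, hc2 x, ← mul_assoc, hc1 x, mul_assoc]
    · rw [mul_assoc k1 c1, ← mul_assoc c1 k2, hc1 k2]; group
  | inv x _ hx =>
    obtain ⟨k, hk, c, hc, rfl⟩ := hx
    refine ⟨k⁻¹, inv_mem hk, c⁻¹, fun x => ?_, ?_⟩
    · have := hc x
      calc c⁻¹ * x = c⁻¹ * (x * c) * c⁻¹ := by group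
        _ = c⁻¹ * (c * x) * c⁻¹ := by rw [this]
        _ = x * c⁻¹ := by group
    · rw [mul_inv_rev]
      have := hc k⁻¹
      calc c⁻¹ * k⁻¹ = c⁻¹ * (k⁻¹ * c) * c⁻¹ := by group
        _ = c⁻¹ * (c * k⁻¹) * c⁻¹ := by rw [this]
        _ = k⁻¹ * c⁻¹ := by group

theorem closure_Dd : Subgroup.closure Dd = H := by
  apply le_antisymm closure_Dd_le
  -- the commutator subgroup of `H` lies in the closure
  have hcomm : commutator H ≤ (Subgroup.closure Dd).subgroupOf H := by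
    rw [commutator_def, Subgroup.commutator_le]
    intro h1 _ h2 _
    obtain ⟨k1, hk1, c1, hc1, rfl⟩ := decomp h1
    obtain ⟨k2, hk2, c2, hc2, rfl⟩ := decomp h2
    rw [commutatorElement_def, comm_central k1 k2 c1 c2 hc1 hc2, Subgroup.mem_subgroupOf]
    simp only [Subgroup.coe_mul, Subgroup.coe_inv]
    exact mul_mem (mul_mem (mul_mem hk1 hk2) (inv_mem hk1)) (inv_mem hk2)
  rw [perfect_H] at hcomm
  intro h hh
  have : (⟨h, hh⟩ : H) ∈ (Subgroup.closure Dd).subgroupOf H := hcomm trivial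
  exact this

/-- the H-part of `IsOfTypeM22` for Fi22 -/
theorem hPart : Nonempty (↥(Subgroup.closure {y : G | y ∈ conjugatesOf T22.zel ∧ y ≠ T22.t z ∧
      Commute (T22.t z) y}) ⧸
    Subgroup.center ↥(Subgroup.closure {y : G | y ∈ conjugatesOf T22.zel ∧ y ≠ T22.t z ∧
      Commute (T22.t z) y}) ≃* Cfsg.PSU 6 Cfsg.Agent.Lib.H17.F4 2) := by
  have h : Subgroup.closure {y : G | y ∈ conjugatesOf T22.zel ∧ y ≠ T22.t z ∧
      Commute (T22.t z) y} = H := closure_Dd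
  rw [h]
  exact quot_iso

end Cfsg.Agent.Lib.H17.FT22
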