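/-
helper17, S5401: the rack family of the reflections of norm `c` of an orthogonal space over the field with three
elements (helper11's `reflEl` API), from a list of the vectors of norm `c` up to sign and their reflection tables.
-/
import Cfsg.Agent.Lib.H11.SpinSign
import Cfsg.Agent.Lib.H11.ReflClass
import Cfsg.Agent.Lib.H17.FT.Rack
import Cfsg.Prelude.Def_FischerSpaces

set_option autoImplicit false

namespace Cfsg.Agent.Lib.H17.FT

open Cfsg.Agent.Lib.H11.CD Cfsg.Agent.Lib.H11.SpinSign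

variable {n : ℕ} (Q : QuadraticForm (ZMod 3) (Fin n → ZMod 3))

theorem zmod3_cases (a : ZMod 3) : a = 0 ∨ a = 1 ∨ a = -1 := by
  revert a; decide

theorem reflEl_inj (u v : Fin n → ZMod 3) (hu : Q u ≠ 0) (hv : Q v ≠ 0)
    (h : reflEl Q u hu = reflEl Q v hv) : u = v ∨ u = -v := by
  have h1 : act Q (reflEl Q u hu) u = act Q (reflEl Q v hv) u := by rw [h]
  rw [reflEl_act_self, reflEl_act] at h1
  set k := (Q v)⁻¹ * QuadraticMap.polar (⇑Q) v u with hk
  -- -u = u - k • v, so u = -k • v  (2 = -1)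
  have h2 : u = (-k) • v := by
    funext i
    have h3 := congrFun h1 i
    simp only [Pi.neg_apply, Pi.sub_apply, Pi.smul_apply, smul_eq_mul] at h3 ⊢
    generalize u i = a at h3 ⊢
    generalize v i = b at h3 ⊢
    generalize k = k' at h3 ⊢
    revert a b k'; decide
  rcases zmod3_cases k with hk0 | hk1 | hk1
  · exfalso
    rw [hk0, neg_zero, zero_smul] at h2
    rw [h2, map_zero] at hu
    exact hu rfl
  · right
    rw [h2, hk1, neg_smul, one_smul]
  · left
    rw [h2, hk1, neg_neg, one_smul]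

/-- the rack family of the reflections of norm `c` -/
noncomputable def rackFamR (c : ZMod 3) (hc : c ≠ 0) {N : ℕ} (S : Set (Fin N))
    (σ : Fin N → Equiv.Perm (Fin N)) (vec : Fin N → Fin n → ZMod 3)
    (hnorm : ∀ j, Q (vec j) = c)
    (hinj : ∀ i j, (vec i = vec j ∨ vec i = -vec j) → i = j)
    (hcover : ∀ v, Q v = c → ∃ j, v = vec j ∨ v = -vec j)
    (htab : ∀ s ∈ S, ∀ j,
      vec j - (c⁻¹ * QuadraticMap.polar (⇑Q) (vec s) (vec j)) • vec s = vec (σ s j) ∨
      vec j - (c⁻¹ * QuadraticMap.polar (⇑Q) (vec s) (vec j)) • vec s = -vec (σ s j))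
    (hconn : ∀ j, ∃ π ∈ Subgroup.closure (σ '' S), ∃ s ∈ S, π s = j) :
    RackFam ↥(Cfsg.reflectionSubgroup (⇑Q) c) (Fin N) S σ where
  y j := ⟨reflEl Q (vec j) (by rw [hnorm j]; exact hc),
    Subgroup.subset_closure ⟨vec j, hnorm j, rfl⟩⟩
  inj := by
    intro i j h
    have h' : reflEl Q (vec i) (by rw [hnorm i]; exact hc) =
        reflEl Q (vec j) (by rw [hnorm j]; exact hc) := congrArg Subtype.val h
    exact hinj i j (reflEl_inj Q _ _ _ _ h')
  conj := by
    intro s hs j
    apply Subtype.ext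
    have hvs : Q (vec s) ≠ 0 := by rw [hnorm s]; exact hc
    have hvj : Q (vec j) ≠ 0 := by rw [hnorm j]; exact hc
    have hgv : Q (act Q (reflEl Q (vec s) hvs) (vec j)) ≠ 0 := by rw [Q_act]; exact hvj
    show reflEl Q (vec s) hvs * reflEl Q (vec j) hvj * (reflEl Q (vec s) hvs)⁻¹ =
      reflEl Q (vec (σ s j)) (by rw [hnorm]; exact hc)
    rw [reflEl_conj Q _ _ hvj hgv]
    have hact : act Q (reflEl Q (vec s) hvs) (vec j) =
        vec j - (c⁻¹ * QuadraticMap.polar (⇑Q) (vec s) (vec j)) • vec s := by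
      rw [reflEl_act, hnorm s]
    rcases htab s hs j with h | h
    · exact reflEl_congr Q _ _ _ _ (hact.trans h)
    · have hσ : Q (vec (σ s j)) ≠ 0 := by rw [hnorm]; exact hc
      have hneg : Q (-vec (σ s j)) ≠ 0 := by rw [QuadraticMap.map_neg]; exact hσ
      rw [reflEl_congr Q _ _ hgv hneg (hact.trans h)]
      exact Cfsg.Agent.Lib.H11.ReflClass.reflEl_neg Q _ hσ hneg
  gen := by
    have h := Subgroup.closure_closure_coe_preimage (k := Cfsg.reflectionsOfNorm (⇑Q) c)
    refine Eq.trans ?_ h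
    congr 1
    ext ⟨g, hg⟩
    simp only [Set.mem_range, Set.mem_preimage]
    constructor
    · rintro ⟨j, hj⟩
      have : reflEl Q (vec j) (by rw [hnorm j]; exact hc) = g := congrArg Subtype.val hj
      subst this
      exact ⟨vec j, hnorm j, rfl⟩
    · rintro ⟨v, hv, hgv⟩
      have hv0 : Q v ≠ 0 := by rw [hv]; exact hc
      have hg' : g = reflEl Q v hv0 := Subtype.ext (Units.ext hgv)
      obtain ⟨j, hj | hj⟩ := hcover v hv
      · have hσ : Q (vec j) ≠ 0 := by rw [hnorm]; exact hc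
        refine ⟨j, Subtype.ext ?_⟩
        show reflEl Q (vec j) hσ = g
        rw [hg']
        exact reflEl_congr Q _ _ _ _ hj.symm
      · have hσ : Q (vec j) ≠ 0 := by rw [hnorm]; exact hc
        refine ⟨j, Subtype.ext ?_⟩
        show reflEl Q (vec j) hσ = g
        rw [hg']
        have hneg : Q (-vec j) ≠ 0 := by rw [QuadraticMap.map_neg]; exact hσ
        rw [reflEl_congr Q v (-vec j) hv0 hneg hj]
        exact (Cfsg.Agent.Lib.H11.ReflClass.reflEl_neg Q _ hσ hneg).symm
  conn := hconn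

end Cfsg.Agent.Lib.H17.FT
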