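/-
helper17, S5401: the L-part of Fi22 (orthogonal side).  The 126 reflections of norm 1 of the sum of six squares over
the field with three elements form a rack family with the same tables `FT22.rows`.
-/
import Cfsg.Agent.Lib.H17.FT.ReflRack
import Cfsg.Agent.Lib.H17.FT.SumSq
import Cfsg.Agent.Lib.H17.FT.Tab
import Cfsg.Agent.Lib.H17.FT.Fi22LData

set_option autoImplicit false
set_option maxRecDepth 100000

namespace Cfsg.Agent.Lib.H17.FT22

open Cfsg.Agent.Lib.H17.CosetCert Cfsg.Agent.Lib.H17.FT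

/-- the `j`-th vector -/
def vecN (j : ℕ) : Fin 6 → ZMod 3 := fun i => (((vecL.getD j []).getD i 0 : ℕ) : ZMod 3)

/-- the `j`-th vector -/
def vec (j : Fin 126) : Fin 6 → ZMod 3 := vecN j

theorem norm_check : ∀ j < 126, ∑ i, vecN j i * vecN j i = 1 := by
  decide +kernel

theorem inj_check : ∀ i < 126, ∀ j < 126, (vecN i = vecN j ∨ vecN i = -vecN j) → i = j := by
  decide +kernel

theorem tab_checkR : ∀ s < 7, ∀ j < 126,
    vecN j - ((1 : ZMod 3)⁻¹ * (2 * ∑ i, vecN s i * vecN j i)) • vecN s =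
        vecN (lk 7 128 (rows.getD s 0) j) ∨
    vecN j - ((1 : ZMod 3)⁻¹ * (2 * ∑ i, vecN s i * vecN j i)) • vecN s =
        -vecN (lk 7 128 (rows.getD s 0) j) := by
  decide +kernel

theorem cover_check : ∀ a b c d e f : ZMod 3,
    a * a + b * b + c * c + d * d + e * e + f * f = 1 →
      ∃ j : Fin 126, ![a, b, c, d, e, f] = vec j ∨ ![a, b, c, d, e, f] = -vec j := by
  decide +kernel

theorem hnorm (j : Fin 126) : sumSq 6 (vec j) = 1 := by
  rw [sumSq_apply]
  exact norm_check j j.2

theorem hinj (i j : Fin 126) (h : vec i = vec j ∨ vec i = -vec j) : i = j :=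
  Fin.ext (inj_check i i.2 j j.2 h)

theorem hcover (v : Fin 6 → ZMod 3) (hv : sumSq 6 v = 1) : ∃ j, v = vec j ∨ v = -vec j := by
  have e : v = ![v 0, v 1, v 2, v 3, v 4, v 5] := by
    funext i; fin_cases i <;> rfl
  rw [sumSq_apply, Fin.sum_univ_six] at hv
  rw [e]
  exact cover_check _ _ _ _ _ _ hv

theorem good_rowsR : ∀ t ∈ rows, Good 7 128 126 t := by
  have : ∀ t ∈ rows, checkRange 7 128 t 126 126 = true ∧ checkWord 7 128 [t, t] 126 = true := by
    decide +kernel
  intro t ht
  exact good_of_checks 7 128 126 t (this t ht).1 (this t ht).2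

theorem htabR : ∀ s ∈ SS 126 rows, ∀ j,
    vec j - ((1 : ZMod 3)⁻¹ * QuadraticMap.polar (⇑(sumSq 6)) (vec s) (vec j)) • vec s =
        vec (sig 7 128 126 rows s j) ∨
    vec j - ((1 : ZMod 3)⁻¹ * QuadraticMap.polar (⇑(sumSq 6)) (vec s) (vec j)) • vec s =
        -vec (sig 7 128 126 rows s j) := by
  intro s hs j
  have hs7 : s.val < 7 := hs
  rw [sumSq_polar]
  have h := tab_checkR s hs7 j j.2
  have e : vec (sig 7 128 126 rows s j) = vecN (lk 7 128 (rows.getD s 0) j) := by
    unfold vec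
    rw [sig_apply 7 128 126 rows good_rowsR s hs j]
  rw [e]
  exact h

theorem hconnR : ∀ j : Fin 126, ∃ π ∈ Subgroup.closure (sig 7 128 126 rows '' SS 126 rows),
    ∃ s ∈ SS 126 rows, π s = j :=
  conn_of_check 7 128 126 rows (by decide) (by decide) (by decide) good_rowsR gr (by decide +kernel)

/-- the rack family of the 126 reflections -/
noncomputable def rackR : RackFam ↥(Cfsg.reflectionSubgroup (⇑(sumSq 6)) 1)
    (Fin 126) (SS 126 rows) (sig 7 128 126 rows) :=
  rackFamR (sumSq 6) 1 (by decide) (SS 126 rows) (sig 7 128 126 rows) vec hnorm hinj hcover htabR hconnR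

end Cfsg.Agent.Lib.H17.FT22
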