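/-
helper17, S5401: the L-part of Fi23 (permutation side).  The 351 transpositions commuting with the two chosen transpositions form a
rack family in the subgroup they generate, with the conjugation tables `FT23.rows`.
-/
import Cfsg.Agent.Lib.H17.Fi23Ord.Transp
import Cfsg.Agent.Lib.H17.FT.TSys
import Cfsg.Agent.Lib.H17.FT.Tab
import Cfsg.Agent.Lib.H17.FT.Fi23LData
import Cfsg.Agent.Lib.H17.PermActs

set_option autoImplicit false
set_option maxRecDepth 100000

namespace Cfsg.Agent.Lib.H17.FT23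

open Cfsg.Spor Cfsg.Agent.Lib.H17.CosetCert Cfsg.Agent.Lib.H17.CoxGlue
  Cfsg.Agent.Lib.H17.Fi23Glue Cfsg.Agent.Lib.H17.Fi23Fi22 Cfsg.Agent.Lib.H17.Fi23Simple
  Cfsg.Agent.Lib.H17.Fi23Transp Cfsg.Agent.Lib.H17.FT Cfsg.Agent.Lib.H17.PermActs MulAction

attribute [local instance] Cfsg.Agent.Lib.H17.Fi23Simple.actInst

/-- the transposition system of Fi23 on the 31671 points -/
noncomputable def T23 : TSys G (Fin 31671) where
  z := z
  zel := zel
  trans := fun x => φ_trans x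
  stab := fun g =>
    ⟨fun h => (comm_of_mem_H g (index_and_stab.2 g h)).symm,
     fun h => φ_H g (by
      rw [← centralizer_zel, Subgroup.mem_centralizer_iff]
      intro x hx
      rw [Set.mem_singleton_iff] at hx
      subst hx
      exact h.symm)⟩

/-- the point of the transposition `c` -/
def x1 : Fin 31671 := ⟨1, by decide⟩

theorem t_z : T23.t z = zel := T23.t_z

theorem t_x1 : T23.t x1 = d1 := by
  rw [d1_eq]
  exact T23.t_eq' r1 x1 r1_smul

/-! ## the points -/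

theorem pt_lt : ∀ j < 351, lk 15 32768 ptTab j < 31671 := by
  have := allLt_sound (fun j => Nat.blt (lk 15 32768 ptTab j) 31671) 351 (by decide +kernel)
  intro j hj
  exact (blt_iff _ _).mp (this j hj)

/-- the point of the `j`-th transposition -/
def pt (j : Fin 351) : Fin 31671 := ⟨lk 15 32768 ptTab j, pt_lt j j.2⟩

theorem ipt_pt : ∀ j < 351, lk 9 512 iptTab (lk 15 32768 ptTab j) = j + 1 := by
  have := allLt_sound (fun j => Nat.beq (lk 9 512 iptTab (lk 15 32768 ptTab j)) (j + 1)) 351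
    (by decide +kernel)
  intro j hj
  exact Nat.eq_of_beq_eq_true (this j hj)

theorem pt_inj : Function.Injective pt := by
  intro i j h
  have h1 := ipt_pt i i.2
  have h2 := ipt_pt j j.2
  have h3 : lk 15 32768 ptTab i = lk 15 32768 ptTab j := congrArg Fin.val h
  rw [h3, h2] at h1
  exact Fin.ext (by omega)

/-- the membership test for the points -/
noncomputable def inJ (y : ℕ) : Bool :=
  !(Nat.beq y 0) && !(Nat.beq y 1) &&
    Nat.beq (applyT 15 32768 (Cfsg.Agent.Lib.H17.Fi23Ord.tw zW).reverse y) y &&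
    Nat.beq (applyT 15 32768 (Cfsg.Agent.Lib.H17.Fi23Ord.tw (rW1 ++ zW ++ rW1.reverse)).reverse y) y

theorem fix_z (y : Fin 31671) : (zel • y = y) ↔
    applyT 15 32768 (Cfsg.Agent.Lib.H17.Fi23Ord.tw zW).reverse y = y := by
  rw [← smul_val, Fin.ext_iff]

theorem fix_c (y : Fin 31671) : (d1 • y = y) ↔
    applyT 15 32768 (Cfsg.Agent.Lib.H17.Fi23Ord.tw (rW1 ++ zW ++ rW1.reverse)).reverse y = y := by
  rw [← smul_val, Fin.ext_iff]

theorem inJ_iff (y : Fin 31671) :
    inJ y = true ↔ (y ≠ z ∧ y ≠ x1 ∧ T23.t z • y = y ∧ T23.t x1 • y = y) := by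
  rw [t_z, t_x1]
  have e3 : (y ≠ z) ↔ (y : ℕ) ≠ 0 := by
    rw [ne_eq, ne_eq, Fin.ext_iff]
    rfl
  have e4 : (y ≠ x1) ↔ (y : ℕ) ≠ 1 := by
    rw [ne_eq, ne_eq, Fin.ext_iff]
    rfl
  unfold inJ
  rw [Bool.and_eq_true, Bool.and_eq_true, Bool.and_eq_true, Bool.not_eq_true', Bool.not_eq_true',
    beq_iff, beq_iff, beq_false_iff, beq_false_iff, ← fix_z y, ← fix_c y, e3, e4]
  constructor
  · rintro ⟨⟨⟨a, b⟩, c⟩, d⟩
    exact ⟨a, b, c, d⟩
  · rintro ⟨a, b, c, d⟩
    exact ⟨⟨⟨a, b⟩, c⟩, d⟩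

set_option maxHeartbeats 8000000 in
theorem inJ_ipt : ∀ y < 31671, inJ y = true →
    (lk 9 512 iptTab y ≠ 0 ∧ lk 9 512 iptTab y - 1 < 351 ∧
      lk 15 32768 ptTab (lk 9 512 iptTab y - 1) = y) := by
  have := allLt_sound (fun y => !(inJ y) ||
    (!(Nat.beq (lk 9 512 iptTab y) 0) && Nat.blt (lk 9 512 iptTab y - 1) 351 &&
      Nat.beq (lk 15 32768 ptTab (lk 9 512 iptTab y - 1)) y)) 31671 (by decide +kernel)
  intro y hy hin
  obtain ⟨h1, h2, h3⟩ := and3 (bool_imp (this y hy) hin)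
  rw [Bool.not_eq_true', beq_false_iff] at h1
  exact ⟨h1, (blt_iff _ _).mp h2, (beq_iff _ _).mp h3⟩

theorem inJ_pt : ∀ j < 351, inJ (lk 15 32768 ptTab j) = true := by
  apply allLt_sound (fun j => inJ (lk 15 32768 ptTab j))
  decide +kernel

theorem pt_range (y : Fin 31671) :
    (y ≠ z ∧ y ≠ x1 ∧ T23.t z • y = y ∧ T23.t x1 • y = y) ↔ ∃ j, pt j = y := by
  rw [← inJ_iff]
  constructor
  · intro h
    obtain ⟨_, h2, h3⟩ := inJ_ipt y y.2 h
    exact ⟨⟨_, h2⟩, Fin.ext h3⟩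
  · rintro ⟨j, rfl⟩
    exact inJ_pt j j.2

/-! ## the tables -/

theorem good_rows : ∀ t ∈ rows, Good 9 512 351 t := by
  have : ∀ t ∈ rows, checkRange 9 512 t 351 351 = true ∧ checkWord 9 512 [t, t] 351 = true := by
    decide +kernel
  intro t ht
  exact good_of_checks 9 512 351 t (this t ht).1 (this t ht).2

/-- the word of the `s`-th transposition -/
def trW (s : ℕ) : List ℕ := gW.getD s [] ++ zW ++ (gW.getD s []).reverse

theorem gW_smul : ∀ s < 7, applyT 15 32768 (Cfsg.Agent.Lib.H17.Fi23Ord.tw (gW.getD s [])).reverse 0 =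
    lk 15 32768 ptTab s := by
  decide +kernel

theorem t_pt (s : Fin 351) (hs : s.val < 7) : T23.t (pt s) = Cfsg.Agent.Lib.H17.Fi23Ord.e (trW s) := by
  have h : Cfsg.Agent.Lib.H17.Fi23Ord.e (gW.getD s []) • z = pt s := by
    apply Fin.ext
    rw [smul_val]
    exact gW_smul s hs
  rw [T23.t_eq' _ _ h]
  unfold trW
  rw [Cfsg.Agent.Lib.H17.Fi23Ord.e_append, Cfsg.Agent.Lib.H17.Fi23Ord.e_append,
    Cfsg.Agent.Lib.H17.Fi23Ord.e_reverse]
  rfl

theorem tab_check : ∀ s < 7, ∀ j < 351,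
    applyT 15 32768 (Cfsg.Agent.Lib.H17.Fi23Ord.tw (trW s)).reverse (lk 15 32768 ptTab j) =
      lk 15 32768 ptTab (lk 9 512 (rows.getD s 0) j) := by
  decide +kernel

theorem htab : ∀ s ∈ SS 351 rows, ∀ j, T23.t (pt s) • pt j = pt (sig 9 512 351 rows s j) := by
  intro s hs j
  have hs7 : s.val < 7 := hs
  apply Fin.ext
  rw [t_pt s hs7, smul_val]
  show _ = lk 15 32768 ptTab (sig 9 512 351 rows s j : Fin 351)
  rw [sig_apply 9 512 351 rows good_rows s hs j]
  exact tab_check s hs7 j j.2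

theorem hconn : ∀ j : Fin 351, ∃ π ∈ Subgroup.closure (sig 9 512 351 rows '' SS 351 rows),
    ∃ s ∈ SS 351 rows, π s = j :=
  conn_of_check 9 512 351 rows (by decide) (by decide) (by decide) good_rows gr (by decide +kernel)

/-- the rack family of the 351 transpositions -/
noncomputable def rackL : RackFam
    ↥(Subgroup.closure ({y : G | y ∈ conjugatesOf T23.zel ∧ y ≠ T23.t z ∧ Commute (T23.t z) y} ∩
      {y : G | y ∈ conjugatesOf T23.zel ∧ y ≠ T23.t x1 ∧ Commute (T23.t x1) y}))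
    (Fin 351) (SS 351 rows) (sig 9 512 351 rows) :=
  T23.rackFamL z x1 (SS 351 rows) (sig 9 512 351 rows) pt pt_inj pt_range htab hconn

end Cfsg.Agent.Lib.H17.FT23
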