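/-
helper17, S5401: the H-part of Fi23.  The transpositions commuting with the central involution `zel` of the point
stabiliser `H = 2.Fi22` generate `H`; `H / Z(H)` is the presented Fi22 and the images of these transpositions are its
transpositions, so `H / Z(H)` with this class is of type M(22).
-/
import Cfsg.Agent.Lib.H17.FT.Fi23L
import Cfsg.Agent.Lib.H17.FT.Fi22Type
import Cfsg.Agent.Lib.H13.FTTR22

set_option autoImplicit false
set_option maxRecDepth 100000

namespace Cfsg.Agent.Lib.H17.FT23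

open Cfsg.Spor Cfsg.Agent.Lib.H17.CosetCert Cfsg.Agent.Lib.H17.CoxGlue
  Cfsg.Agent.Lib.H17.Fi23Glue Cfsg.Agent.Lib.H17.Fi23Fi22 Cfsg.Agent.Lib.H17.Fi23Simple
  Cfsg.Agent.Lib.H17.Fi23Transp Cfsg.Agent.Lib.H17.Fi23Cover Cfsg.Agent.Lib.H17.FT MulAction

attribute [local instance] Cfsg.Agent.Lib.H17.Fi23Simple.actInst

/-- the transpositions commuting with `zel`, other than `zel` -/
def Dd : Set G := {y : G | y ∈ conjugatesOf T23.zel ∧ y ≠ T23.t z ∧ Commute (T23.t z) y}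

theorem mem_Dd_iff (y : G) : y ∈ Dd ↔ (∃ g : G, g * zel * g⁻¹ = y) ∧ y ≠ zel ∧ zel * y = y * zel := by
  unfold Dd
  rw [Set.mem_ofPred_eq, t_z]
  constructor
  · rintro ⟨h1, h2, h3⟩
    exact ⟨isConj_iff.mp h1, h2, h3⟩
  · rintro ⟨h1, h2, h3⟩
    exact ⟨isConj_iff.mpr h1, h2, h3⟩

theorem not_comm_d1 : ¬ (zel * d1 = d1 * zel) := by
  intro h
  have h3 := pow_d1
  -- (zel d1)^3 = 1 and zel, d1 commuting involutions give zel d1 = 1
  have hd1 : d1 * d1 = 1 := by
    rw [d1_eq]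
    calc r1 * zel * r1⁻¹ * (r1 * zel * r1⁻¹) = r1 * (zel * zel) * r1⁻¹ := by group
      _ = 1 := by rw [zel_sq]; group
  have h2 : (zel * d1) * (zel * d1) = 1 := by
    calc zel * d1 * (zel * d1) = zel * (d1 * zel) * d1 := by group
      _ = zel * (zel * d1) * d1 := by rw [h]
      _ = (zel * zel) * (d1 * d1) := by group
      _ = 1 := by rw [zel_sq, hd1, one_mul]
  have h1 : zel * d1 = 1 := by
    have : (zel * d1) ^ 3 = (zel * d1) * ((zel * d1) * (zel * d1)) := by
      rw [pow_succ, pow_two]; group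
    rw [this, h2, mul_one] at h3
    exact h3
  apply d1_ne
  calc d1 = zel * (zel * d1) := by rw [← mul_assoc, zel_sq, one_mul]
    _ = zel := by rw [h1, mul_one]

/-- the members of `Dd` are the `H`-conjugates of `d0` -/
theorem mem_Dd_iff' (y : G) : y ∈ Dd ↔ ∃ h ∈ H, y = h * d0 * h⁻¹ := by
  rw [mem_Dd_iff]
  constructor
  · rintro ⟨⟨g, rfl⟩, hne, hc⟩
    rcases conj_cases g with hg | ⟨h, hh, e⟩ | ⟨h, hh, e⟩
    · exact absurd (zel_conj_of_mem_H g hg) hne
    · exact ⟨h, hh, e⟩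
    · exfalso
      apply not_comm_d1
      rw [e] at hc
      have c1 := comm_of_mem_H h hh
      have c2 := comm_of_mem_H h⁻¹ (inv_mem hh)
      calc zel * d1 = h⁻¹ * (h * zel) * d1 := by group
        _ = h⁻¹ * (zel * h) * d1 * (h⁻¹ * h) := by rw [c1]; group
        _ = h⁻¹ * (zel * (h * d1 * h⁻¹)) * h := by group
        _ = h⁻¹ * ((h * d1 * h⁻¹) * zel) * h := by rw [hc]
        _ = d1 * (h⁻¹ * zel) * h := by group
        _ = d1 * (zel * h⁻¹) * h := by rw [c2]
        _ = d1 * zel := by group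
  · rintro ⟨h, hh, rfl⟩
    have c1 := comm_of_mem_H h hh
    have c2 := comm_of_mem_H h⁻¹ (inv_mem hh)
    have hd0 : zel * d0 = d0 * zel := by
      have h2 := pow_d0
      have hd : d0 * d0 = 1 := by
        rw [d0_eq]
        calc r0 * zel * r0⁻¹ * (r0 * zel * r0⁻¹) = r0 * (zel * zel) * r0⁻¹ := by group
          _ = 1 := by rw [zel_sq]; group
      rw [pow_two] at h2
      have e1 : zel * d0 = (zel * d0)⁻¹ := eq_inv_of_mul_eq_one_left h2
      have e2 : zel⁻¹ = zel := inv_eq_of_mul_eq_one_left zel_sq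
      have e3 : d0⁻¹ = d0 := inv_eq_of_mul_eq_one_left hd
      rw [e1, mul_inv_rev, e2, e3]
    refine ⟨⟨h * r0, ?_⟩, ?_, ?_⟩
    · rw [d0_eq]; group
    · intro e
      apply d0_ne
      calc d0 = h⁻¹ * (h * d0 * h⁻¹) * h := by group
        _ = h⁻¹ * zel * h := by rw [e]
        _ = zel * h⁻¹ * h := by rw [c2]
        _ = zel := by group
    · calc zel * (h * d0 * h⁻¹) = (zel * h) * d0 * h⁻¹ := by group
        _ = h * (zel * d0) * h⁻¹ := by rw [c1]; group
        _ = h * d0 * (zel * h⁻¹) := by rw [hd0]; group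
        _ = h * d0 * (h⁻¹ * zel) := by rw [c2]
        _ = h * d0 * h⁻¹ * zel := by group

theorem gen_ne_zel : ∀ x < 10, x ≠ 7 →
    applyT 15 32768 (Cfsg.Agent.Lib.H17.Fi23Ord.tw [x]).reverse 52 ≠
      applyT 15 32768 (Cfsg.Agent.Lib.H17.Fi23Ord.tw zW).reverse 52 ∨
    applyT 15 32768 (Cfsg.Agent.Lib.H17.Fi23Ord.tw [x]).reverse 1 ≠
      applyT 15 32768 (Cfsg.Agent.Lib.H17.Fi23Ord.tw zW).reverse 1 := by
  decide +kernel

theorem embN_mem_Dd (x : ℕ) (hx : x < 9) : ((embN x : H) : G) ∈ Dd := by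
  rw [mem_Dd_iff, embN_val]
  have hm : m x < 10 := by
    unfold m
    split <;> omega
  refine ⟨conj_all _ ⟨m x, hm, rfl⟩, ?_, ?_⟩
  · intro e
    rw [← Cfsg.Agent.Lib.H17.Fi23Ord.e_singleton] at e
    rcases gen_ne_zel (m x) hm (m_ne x) with h | h
    · apply h
      rw [← smul_val _ ⟨52, by decide⟩, ← smul_val _ ⟨52, by decide⟩, e]
    · apply h
      rw [← smul_val _ ⟨1, by decide⟩, ← smul_val _ ⟨1, by decide⟩, e]
  · have := comm_of_mem_H _ (embN x).2
    rw [embN_val] at this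
    exact this

theorem closure_Dd : Subgroup.closure Dd = H := by
  apply le_antisymm
  · rw [Subgroup.closure_le]
    intro y hy
    obtain ⟨h, hh, rfl⟩ := (mem_Dd_iff' y).mp hy
    have : d0 ∈ H := by
      obtain ⟨h', hh', e⟩ := (mem_Dd_iff' (embN 0 : H).1).mp (embN_mem_Dd 0 (by decide))
      have : d0 = h'⁻¹ * (embN 0 : H).1 * h' := by rw [e]; group
      rw [this]
      exact mul_mem (mul_mem (inv_mem hh') (embN 0).2) hh'
    exact mul_mem (mul_mem hh this) (inv_mem hh)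
  · intro g hg
    have h1 : (⟨g, hg⟩ : H) ∈ Subgroup.closure {h : H | ∃ x < 9, h = embN x} := by
      rw [closure_emb]; trivial
    have key : ∀ k : H, k ∈ Subgroup.closure {h : H | ∃ x < 9, h = embN x} →
        (k : G) ∈ Subgroup.closure Dd := by
      intro k hk
      induction hk using Subgroup.closure_induction with
      | mem k hk =>
        obtain ⟨x, hx, rfl⟩ := hk
        exact Subgroup.subset_closure (embN_mem_Dd x hx)
      | one => exact one_mem _
      | mul a b _ _ ha hb => exact mul_mem ha hb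
      | inv a _ ha => exact inv_mem ha
    exact key _ h1

/-- the isomorphism from the presented Fi22 -/
noncomputable def ε : G22 ≃* H ⧸ Subgroup.center H :=
  (MulEquiv.ofBijective ψ ψ_bij).trans (QuotientGroup.quotientMulEquivOfEq center_eq.symm)

theorem ε_zel : ε (Cfsg.Agent.Lib.H17.Fi22Transp.zel) = QuotientGroup.mk (embN 0) := by
  have h1 : Cfsg.Agent.Lib.H17.Fi22Transp.zel = PresentedGroup.of (Cfsg.Agent.Lib.H17.Fi22Glue.gen 0) :=
    Cfsg.Agent.Lib.H17.Fi22Transp.zel_eq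
  rw [h1]
  show QuotientGroup.quotientMulEquivOfEq center_eq.symm (ψ (PresentedGroup.of _)) = _
  rw [ψ_of]
  rfl

theorem image_conjugatesOf {A B : Type*} [Group A] [Group B] (e : A ≃* B) (a : A) :
    e '' conjugatesOf a = conjugatesOf (e a) := by
  ext b
  constructor
  · rintro ⟨x, hx, rfl⟩
    obtain ⟨c, rfl⟩ := isConj_iff.mp hx
    exact isConj_iff.mpr ⟨e c, by simp⟩
  · intro hb
    obtain ⟨c, rfl⟩ := isConj_iff.mp hb
    refine ⟨e.symm c * a * (e.symm c)⁻¹, isConj_iff.mpr ⟨_, rfl⟩, by simp⟩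

theorem mk_image_conjugatesOf {A : Type*} [Group A] (N : Subgroup A) [N.Normal] (a : A) :
    (QuotientGroup.mk : A → A ⧸ N) '' conjugatesOf a = conjugatesOf (QuotientGroup.mk a : A ⧸ N) := by
  ext b
  constructor
  · rintro ⟨x, hx, rfl⟩
    obtain ⟨c, rfl⟩ := isConj_iff.mp hx
    exact isConj_iff.mpr ⟨QuotientGroup.mk c, by simp⟩
  · intro hb
    obtain ⟨c, rfl⟩ := isConj_iff.mp hb
    obtain ⟨c', rfl⟩ := QuotientGroup.mk_surjective c
    exact ⟨c' * a * c'⁻¹, isConj_iff.mpr ⟨_, rfl⟩, by simp⟩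

theorem class_embN : conjugatesOf (embN 0 : H) = {x : H | (x : G) ∈ Dd} := by
  obtain ⟨h0, hh0, e0⟩ := (mem_Dd_iff' (embN 0 : H).1).mp (embN_mem_Dd 0 (by decide))
  ext x
  constructor
  · intro hx
    obtain ⟨c, rfl⟩ := isConj_iff.mp hx
    rw [Set.mem_ofPred_eq, mem_Dd_iff']
    refine ⟨c.1 * h0, mul_mem c.2 hh0, ?_⟩
    simp only [Subgroup.coe_mul, Subgroup.coe_inv]
    rw [e0]; group
  · intro hx
    obtain ⟨h, hh, e⟩ := (mem_Dd_iff' x.1).mp hx
    refine isConj_iff.mpr ⟨⟨h * h0⁻¹, mul_mem hh (inv_mem hh0)⟩, ?_⟩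
    apply Subtype.ext
    simp only [Subgroup.coe_mul, Subgroup.coe_inv]
    rw [e, e0]; group

theorem typeH : Cfsg.IsOfTypeM22 (H ⧸ Subgroup.center H)
    ((QuotientGroup.mk : H → H ⧸ Subgroup.center H) '' {x : H | (x : G) ∈ Dd}) := by
  have h := Cfsg.Agent.Lib.H13.FT.isOfTypeM22_map ε Cfsg.Agent.Lib.H17.FT22.typeM22'
  rw [image_conjugatesOf, ε_zel, ← mk_image_conjugatesOf, class_embN] at h
  exact h

/-- the H-part of `IsOfTypeM23` for Fi23 -/
theorem hPart : Cfsg.IsOfTypeM22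
    (↥(Subgroup.closure {y : G | y ∈ conjugatesOf T23.zel ∧ y ≠ T23.t z ∧ Commute (T23.t z) y}) ⧸
      Subgroup.center ↥(Subgroup.closure {y : G | y ∈ conjugatesOf T23.zel ∧ y ≠ T23.t z ∧
        Commute (T23.t z) y}))
    ((QuotientGroup.mk : ↥(Subgroup.closure {y : G | y ∈ conjugatesOf T23.zel ∧ y ≠ T23.t z ∧
        Commute (T23.t z) y}) → _) ''
      {x : ↥(Subgroup.closure {y : G | y ∈ conjugatesOf T23.zel ∧ y ≠ T23.t z ∧
        Commute (T23.t z) y}) | (x : G) ∈ {y : G | y ∈ conjugatesOf T23.zel ∧ y ≠ T23.t z ∧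
        Commute (T23.t z) y}}) := by
  have key : ∀ K : Subgroup G, K = H → Cfsg.IsOfTypeM22 (K ⧸ Subgroup.center K)
      ((QuotientGroup.mk : K → K ⧸ Subgroup.center K) '' {x : K | (x : G) ∈ Dd}) := by
    intro K hK
    subst hK
    exact typeH
  exact key _ closure_Dd

end Cfsg.Agent.Lib.H17.FT23
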