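/-
helper17, S5401: the L-part of Fi23 (orthogonal side).  The 351 reflections of norm 1 of the sum of seven squares over
the field with three elements form a rack family with the same tables `FT23.rows`.
-/
import Cfsg.Agent.Lib.H17.FT.ReflRack
import Cfsg.Agent.Lib.H17.FT.SumSq
import Cfsg.Agent.Lib.H17.FT.Tab
import Cfsg.Agent.Lib.H17.FT.Fi23LData

set_option autoImplicit false
set_option maxRecDepth 100000

namespace Cfsg.Agent.Lib.H17.FT23

open Cfsg.Agent.Lib.H17.CosetCert Cfsg.Agent.Lib.H17.FT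

/-- the `j`-th vector -/
def vecN (j : ℕ) : Fin 7 → ZMod 3 := fun i => (((vecL.getD j []).getD i 0 : ℕ) : ZMod 3)

/-- the `j`-th vector -/
def vec (j : Fin 351) : Fin 7 → ZMod 3 := vecN j

theorem norm_check : ∀ j < 351, ∑ i, vecN j i * vecN j i = 1 := by
  decide +kernel

theorem inj_check : ∀ i < 351, ∀ j < 351, (vecN i = vecN j ∨ vecN i = -vecN j) → i = j := by
  decide +kernel

theorem tab_checkR : ∀ s < 7, ∀ j < 351,
    vecN j - ((1 : ZMod 3)⁻¹ * (2 * ∑ i, vecN s i * vecN j i)) • vecN s =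
        vecN (lk 9 512 (rows.getD s 0) j) ∨
    vecN j - ((1 : ZMod 3)⁻¹ * (2 * ∑ i, vecN s i * vecN j i)) • vecN s =
        -vecN (lk 9 512 (rows.getD s 0) j) := by
  decide +kernel

theorem cover_check : ∀ a b c d e f g : ZMod 3,
    a * a + b * b + c * c + d * d + e * e + f * f + g * g = 1 →
      ∃ j : Fin 351, ![a, b, c, d, e, f, g] = vec j ∨ ![a, b, c, d, e, f, g] = -vec j := by
  decide +kernel

theorem hnorm (j : Fin 351) : sumSq 7 (vec j) = 1 := by
  rw [sumSq_apply]
  exact norm_check j j.2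

theorem hinj (i j : Fin 351) (h : vec i = vec j ∨ vec i = -vec j) : i = j :=
  Fin.ext (inj_check i i.2 j j.2 h)

theorem hcover (v : Fin 7 → ZMod 3) (hv : sumSq 7 v = 1) : ∃ j, v = vec j ∨ v = -vec j := by
  have e : v = ![v 0, v 1, v 2, v 3, v 4, v 5, v 6] := by
    funext i; fin_cases i <;> rfl
  rw [sumSq_apply, Fin.sum_univ_seven] at hv
  rw [e]
  exact cover_check _ _ _ _ _ _ _ hv

theorem good_rowsR : ∀ t ∈ rows, Good 9 512 351 t := by
  have : ∀ t ∈ rows, checkRange 9 512 t 351 351 = true ∧ checkWord 9 512 [t, t] 351 = true := by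
    decide +kernel
  intro t ht
  exact good_of_checks 9 512 351 t (this t ht).1 (this t ht).2

theorem htabR : ∀ s ∈ SS 351 rows, ∀ j,
    vec j - ((1 : ZMod 3)⁻¹ * QuadraticMap.polar (⇑(sumSq 7)) (vec s) (vec j)) • vec s =
        vec (sig 9 512 351 rows s j) ∨
    vec j - ((1 : ZMod 3)⁻¹ * QuadraticMap.polar (⇑(sumSq 7)) (vec s) (vec j)) • vec s =
        -vec (sig 9 512 351 rows s j) := by
  intro s hs j
  have hs7 : s.val < 7 := hs
  rw [sumSq_polar]
  have h := tab_checkR s hs7 j j.2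
  have e : vec (sig 9 512 351 rows s j) = vecN (lk 9 512 (rows.getD s 0) j) := by
    unfold vec
    rw [sig_apply 9 512 351 rows good_rowsR s hs j]
  rw [e]
  exact h

theorem hconnR : ∀ j : Fin 351, ∃ π ∈ Subgroup.closure (sig 9 512 351 rows '' SS 351 rows),
    ∃ s ∈ SS 351 rows, π s = j :=
  conn_of_check 9 512 351 rows (by decide) (by decide) (by decide) good_rowsR gr (by decide +kernel)

/-- the rack family of the 351 reflections -/
noncomputable def rackR : RackFam ↥(Cfsg.reflectionSubgroup (⇑(sumSq 7)) 1)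
    (Fin 351) (SS 351 rows) (sig 9 512 351 rows) :=
  rackFamR (sumSq 7) 1 (by decide) (SS 351 rows) (sig 9 512 351 rows) vec hnorm hinj hcover htabR hconnR

end Cfsg.Agent.Lib.H17.FT23
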