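/-
helper17, S5401: the presented Fi23 with its class of 31671 transpositions is of type M(23), and acts primitively on
the class.
-/
import Cfsg.Agent.Lib.H17.FT.Fi23H
import Cfsg.Agent.Lib.H17.FT.Fi23R
import Cfsg.Agent.Lib.H15.FTPRIM

set_option autoImplicit false
set_option maxRecDepth 100000

namespace Cfsg.Agent.Lib.H17.FT23

open Cfsg.Spor Cfsg.Agent.Lib.H17.CosetCert Cfsg.Agent.Lib.H17.CoxGlue
  Cfsg.Agent.Lib.H17.Fi23Glue Cfsg.Agent.Lib.H17.Fi23Fi22 Cfsg.Agent.Lib.H17.Fi23Simple
  Cfsg.Agent.Lib.H17.Fi23Transp Cfsg.Agent.Lib.H17.FT MulAction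

attribute [local instance] Cfsg.Agent.Lib.H17.Fi23Simple.actInst

theorem not_comm : ¬ Commute (T23.t z) (T23.t x1) := by
  rw [T23.commute_iff, t_z]
  intro h
  have := congrArg Fin.val h
  rw [smul_val] at this
  revert this
  decide +kernel

theorem center_bot : Subgroup.center G = ⊥ := by
  have hs := Cfsg.Agent.Lib.H17.Fi23Simple.simple
  rcases hs.eq_bot_or_eq_top_of_normal (Subgroup.center G) inferInstance with h | h
  · exact h
  · exfalso
    apply not_comm
    have : T23.t z ∈ Subgroup.center G := by rw [h]; trivial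
    exact (Subgroup.mem_center_iff.mp this (T23.t x1)).symm

/-- **Fi23 is of type M(23).** -/
theorem typeM23 : Cfsg.IsOfTypeM23 G (conjugatesOf T23.zel) := by
  refine ⟨center_bot, T23.t z, T23.t_mem z, T23.t x1, T23.t_mem x1, not_comm, hPart,
    1, by decide, sumSq 7, sumSq_nondeg 7, ?_, ⟨rackL.isoOfTables rackR⟩⟩
  rw [sumSq_gram]
  decide

/-- the same, without reference to the transposition system -/
theorem typeM23' : Cfsg.IsOfTypeM23 G (conjugatesOf zel) := typeM23

theorem stab_eq : MulAction.stabilizer G z = Subgroup.centralizer {zel} := by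
  ext g
  rw [MulAction.mem_stabilizer_iff, Subgroup.mem_centralizer_iff]
  constructor
  · intro h x hx
    rw [Set.mem_singleton_iff] at hx
    subst hx
    exact ((T23.stab g).mp h).symm
  · intro h
    exact (T23.stab g).mpr (h zel rfl).symm

/-- Fi23 acts primitively on its transpositions. -/
theorem prim23 : Cfsg.IsPrimitiveUnderConj (conjugatesOf T23.zel) :=
  Cfsg.Agent.Lib.H15.FT.isPrimitiveUnderConj_of_isPreprimitive z zel stab_eq ⟨x1, by decide⟩

theorem class23 : Cfsg.IsThreeTranspositionClass (conjugatesOf T23.zel) := threeTranspositionClass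

end Cfsg.Agent.Lib.H17.FT23
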