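/-
helper17, S5401: the transposition system of the presented Fi24 on the 306936 points, and its class of 306936
transpositions: a class of 3-transpositions on which Fi24 acts primitively.
-/
import Cfsg.Agent.Lib.H17.Fi24S.Prim
import Cfsg.Agent.Lib.H17.FT.TSys
import Cfsg.Agent.Lib.H15.FTPRIM
import Cfsg.Agent.Lib.H15.FTCEN
import Cfsg.Agent.Lib.H25.FTCENT

set_option autoImplicit false
set_option maxRecDepth 100000

namespace Cfsg.Agent.Lib.H17.FT24

open Cfsg.Agent.Lib.H17.Fi24S Cfsg.Agent.Lib.H6.FiIndex Cfsg.Agent.Lib.H17.FT MulAction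

attribute [local instance] Cfsg.Agent.Lib.H17.Fi24S.actInst

theorem E0_ne_one : E 0 ≠ 1 := fun h => phi_E0_ne_one (by rw [h, map_one])

theorem E0_smul_z0 : E 0 • z0 = z0 := phi_H _ (E_mem_H 0 (by norm_num) (by norm_num))

theorem comm_of_smul (g : G) (h : g • z0 = z0) : g * E 0 = E 0 * g := c_comm_H g (H_index.2 g h)

/-- the transposition system of Fi24 on the 306936 points -/
noncomputable def T24 : TSys G (Fin n) where
  z := z0
  zel := E 0
  trans := fun x => phi_trans x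
  stab := fun g =>
    ⟨comm_of_smul g, fun h => by
      have := faithful
      exact Cfsg.Agent.Lib.H25.FT.smul_eq_of_commute z0 (E 0) E0_ne_one E0_smul_z0 comm_of_smul g h⟩

theorem t_z : T24.t z0 = E 0 := T24.t_z

/-- the point of the transposition `k` -/
def x2 : Fin n := ⟨2, by norm_num⟩

/-- the point of the transposition `a` -/
def x6 : Fin n := ⟨6, by norm_num⟩

theorem smul_val (x : ℕ) (hx : x < 12) (i : Fin n) :
    ((E x • i : Fin n) : ℕ) = Cfsg.Agent.Lib.H6.FiPerm.T x i := phi_E_apply x hx i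

set_option maxRecDepth 1000000 in
theorem T_vals' : Cfsg.Agent.Lib.H6.FiPerm.T 1 0 = 1 ∧ Cfsg.Agent.Lib.H6.FiPerm.T 0 1 = 2 ∧
    Cfsg.Agent.Lib.H6.FiPerm.T 0 2 = 1 ∧ Cfsg.Agent.Lib.H6.FiPerm.T 2 2 = 4 ∧
    Cfsg.Agent.Lib.H6.FiPerm.T 1 4 = 6 ∧ Nat.land (Lb 2) 3 = 1 ∧ Nat.land (Lb 6) 3 = 2 := by
  decide +kernel

theorem smul_eq_of_val (x : ℕ) (hx : x < 12) (i j : Fin n)
    (h : Cfsg.Agent.Lib.H6.FiPerm.T x i = j) : E x • i = j :=
  Fin.ext ((smul_val x hx i).trans h)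

theorem r1_smul : (E 0 * E 1) • z0 = x2 := by
  rw [mul_smul, smul_eq_of_val 1 (by norm_num) z0 ⟨1, by norm_num⟩ T_vals'.1]
  exact smul_eq_of_val 0 (by norm_num) _ x2 T_vals'.2.1

theorem r2_smul : (E 1 * E 2 * (E 0 * E 1)) • z0 = x6 := by
  rw [mul_smul, r1_smul, mul_smul,
    smul_eq_of_val 2 (by norm_num) x2 ⟨4, by norm_num⟩ T_vals'.2.2.2.1]
  exact smul_eq_of_val 1 (by norm_num) ⟨4, by norm_num⟩ x6 T_vals'.2.2.2.2.1

theorem braid_eq (x y : ℕ) (hw : [x, y, x, y, x, y] ∈ Cfsg.Agent.Lib.H6.FiGlue.relW) :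
    (E x * E y) * E x * (E x * E y)⁻¹ = E y := by
  have h := ew_rel _ hw
  simp only [ew_cons, ew_nil, mul_one] at h
  rw [mul_inv_rev, E_inv, E_inv]
  -- x y x y x = y  from  x y x y x y = 1
  have : E x * (E y * (E x * (E y * E x))) = (E y)⁻¹ := eq_inv_of_mul_eq_one_left (by
    rw [← h]; simp only [mul_assoc])
  rw [E_inv] at this
  calc (E x * E y) * E x * (E y * E x) = E x * (E y * (E x * (E y * E x))) := by
        simp only [mul_assoc]
    _ = E y := this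

theorem t_x2 : T24.t x2 = E 1 := by
  rw [T24.t_eq' (E 0 * E 1) x2 r1_smul]
  exact braid_eq 0 1 (by decide)

theorem t_x6 : T24.t x6 = E 2 := by
  rw [T24.t_eq' (E 1 * E 2 * (E 0 * E 1)) x6 r2_smul]
  have h1 : (E 0 * E 1) * E 0 * (E 0 * E 1)⁻¹ = E 1 := braid_eq 0 1 (by decide)
  have h2 : (E 1 * E 2) * E 1 * (E 1 * E 2)⁻¹ = E 2 := braid_eq 1 2 (by decide)
  calc E 1 * E 2 * (E 0 * E 1) * T24.zel * (E 1 * E 2 * (E 0 * E 1))⁻¹
      = (E 1 * E 2) * ((E 0 * E 1) * E 0 * (E 0 * E 1)⁻¹) * (E 1 * E 2)⁻¹ := by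
        show E 1 * E 2 * (E 0 * E 1) * E 0 * (E 1 * E 2 * (E 0 * E 1))⁻¹ = _
        group
    _ = E 2 := by rw [h1, h2]

theorem pow_E0E1 : (E 0 * E 1) ^ 3 = 1 := by
  have h1 : ew [0, 1, 0, 1, 0, 1] = 1 := ew_rel _ (by decide)
  have h2 : ew [0, 1, 0, 1, 0, 1] = (E 0 * E 1) ^ 3 := by
    simp only [ew_cons, ew_nil, mul_one, pow_succ, pow_zero, one_mul, mul_assoc]
  rw [← h2, h1]

theorem pow_E0E2 : (E 0 * E 2) ^ 2 = 1 := by
  rw [pow_two]
  calc E 0 * E 2 * (E 0 * E 2) = E 0 * (E 2 * E 0) * E 2 := by group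
    _ = E 0 * (E 0 * E 2) * E 2 := by rw [comm_c 2 (by norm_num) (by norm_num)]
    _ = (E 0 * E 0) * (E 2 * E 2) := by group
    _ = 1 := by rw [E_mul_self, E_mul_self, one_mul]

/-- a conjugate of `l` is `l` itself, or conjugate under the point stabiliser to `a` or to `k` -/
theorem conj_cases (g : G) : g • z0 = z0 ∨
    (∃ h : G, h • z0 = z0 ∧ g * E 0 * g⁻¹ = h * E 2 * h⁻¹) ∨
    (∃ h : G, h • z0 = z0 ∧ g * E 0 * g⁻¹ = h * E 1 * h⁻¹) := by
  by_cases hz : g • z0 = z0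
  · exact Or.inl hz
  · right
    have key : ∀ (c : ℕ) (x : Fin n), x ∈ O c → g • z0 ∈ O c →
        ∃ h : G, h • z0 = z0 ∧ g * E 0 * g⁻¹ = h * T24.t x * h⁻¹ := by
      intro c x hx hg
      obtain ⟨h, hh, hhx⟩ := trans_O c x hx (g • z0) hg
      refine ⟨h, hh, ?_⟩
      have e1 : T24.t (g • z0) = g * E 0 * g⁻¹ := T24.t_eq g
      rw [← e1, ← hhx, T24.t_smul]
    rcases cover (g • z0) hz with hm | hm
    · right
      obtain ⟨h, hh, e⟩ := key 1 x2 T_vals'.2.2.2.2.2.1 hm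
      exact ⟨h, hh, by rw [e, t_x2]⟩
    · left
      obtain ⟨h, hh, e⟩ := key 2 x6 T_vals'.2.2.2.2.2.2 hm
      exact ⟨h, hh, by rw [e, t_x6]⟩

theorem pow_conj (h x : G) (m : ℕ) : (h * x * h⁻¹) ^ m = h * x ^ m * h⁻¹ := by
  induction m with
  | zero => simp
  | succ m ih => rw [pow_succ, ih, pow_succ]; group

/-- the product of `l` with any of its conjugates has order at most three -/
theorem pow_zel_conj (g : G) : (E 0 * (g * E 0 * g⁻¹)) ^ 2 = 1 ∨ (E 0 * (g * E 0 * g⁻¹)) ^ 3 = 1 := by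
  have hconj : ∀ (h y : G), h • z0 = z0 → E 0 * (h * y * h⁻¹) = h * (E 0 * y) * h⁻¹ := by
    intro h y hh
    have c1 := comm_of_smul h hh
    calc E 0 * (h * y * h⁻¹) = (E 0 * h) * y * h⁻¹ := by group
      _ = (h * E 0) * y * h⁻¹ := by rw [c1]
      _ = h * (E 0 * y) * h⁻¹ := by group
  rcases conj_cases g with hg | ⟨h, hh, he⟩ | ⟨h, hh, he⟩
  · left
    have : g * E 0 * g⁻¹ = E 0 := by rw [comm_of_smul g hg]; group
    rw [this, pow_two, E_mul_self, one_mul]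
  · left
    rw [he, hconj h _ hh, pow_conj, pow_E0E2]
    group
  · right
    rw [he, hconj h _ hh, pow_conj, pow_E0E1]
    group

/-- the class of transpositions -/
def D : Set G := conjugatesOf (E 0)

theorem mem_D (d : G) : d ∈ D ↔ ∃ g : G, g * E 0 * g⁻¹ = d := by
  change IsConj (E 0) d ↔ _
  rw [isConj_iff]

theorem orderOf_E0 : orderOf (E 0) = 2 :=
  orderOf_eq_prime (by rw [pow_two]; exact E_mul_self 0) E0_ne_one

theorem threeTranspositionSet : Cfsg.IsThreeTranspositionSet D := by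
  constructor
  · intro d hd
    obtain ⟨g, rfl⟩ := (mem_D d).mp hd
    have : g * E 0 * g⁻¹ = MulAut.conj g (E 0) := rfl
    rw [this, MulEquiv.orderOf_eq]
    exact orderOf_E0
  · intro d hd e he
    obtain ⟨g1, rfl⟩ := (mem_D d).mp hd
    obtain ⟨g2, rfl⟩ := (mem_D e).mp he
    have key : g1 * E 0 * g1⁻¹ * (g2 * E 0 * g2⁻¹) =
        g1 * (E 0 * ((g1⁻¹ * g2) * E 0 * (g1⁻¹ * g2)⁻¹)) * g1⁻¹ := by group
    rw [key, pow_conj, pow_conj]
    rcases pow_zel_conj (g1⁻¹ * g2) with h | h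
    · left
      rw [h]
      group
    · right
      rw [h]
      group

theorem closure_D : Subgroup.closure D = ⊤ := by
  rw [eq_top_iff, ← Cfsg.Agent.Lib.H6.FiGlue.closure_gens]
  apply Subgroup.closure_mono
  intro s hs
  obtain ⟨g, hg⟩ := conj_all s hs
  exact (mem_D s).mpr ⟨g, hg⟩

/-- the transpositions of Fi24 form a class of 3-transpositions -/
theorem class24 : Cfsg.IsThreeTranspositionClass (conjugatesOf T24.zel) :=
  ⟨threeTranspositionSet, ⟨E 0, (mem_D _).mpr ⟨1, by group⟩, rfl⟩, closure_D⟩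

theorem not_comm : ¬ Commute (T24.t z0) (T24.t x2) := by
  rw [T24.commute_iff, t_z]
  intro h
  have h1 := congrArg Fin.val h
  rw [smul_val 0 (by norm_num) x2] at h1
  have h2 : Cfsg.Agent.Lib.H6.FiPerm.T 0 2 = 1 := T_vals'.2.2.1
  change Cfsg.Agent.Lib.H6.FiPerm.T 0 2 = 2 at h1
  omega

theorem stab_eq : MulAction.stabilizer G z0 = Subgroup.centralizer {E 0} := by
  ext g
  rw [MulAction.mem_stabilizer_iff, Subgroup.mem_centralizer_iff]
  constructor
  · intro h x hx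
    rw [Set.mem_singleton_iff] at hx
    subst hx
    exact ((T24.stab g).mp h).symm
  · intro h
    exact (T24.stab g).mpr (h (E 0) rfl).symm

theorem center_bot : Subgroup.center G = ⊥ := by
  have := faithful
  apply Cfsg.Agent.Lib.H15.FT.center_eq_bot_of_isPreprimitive z0
  intro h
  apply E0_ne_one
  have : E 0 ∈ MulAction.stabilizer G z0 := E0_smul_z0
  rw [h, Subgroup.mem_bot] at this
  exact this

/-- Fi24 acts primitively on its transpositions. -/
theorem prim24 : Cfsg.IsPrimitiveUnderConj (conjugatesOf T24.zel) :=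
  Cfsg.Agent.Lib.H15.FT.isPrimitiveUnderConj_of_isPreprimitive z0 (E 0) stab_eq ⟨x2, by decide⟩

end Cfsg.Agent.Lib.H17.FT24
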