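/-
helper17, S5401: the H-part of Fi24.  The transpositions commuting with `l` generate the point stabiliser
`H = 2 × Fi23`; `H / Z(H)` is the presented Fi23 and the images of these transpositions are its transpositions, so
`H / Z(H)` with this class is of type M(23).
-/
import Cfsg.Agent.Lib.H17.FT.Fi24T
import Cfsg.Agent.Lib.H17.FT.Fi23Type
import Cfsg.Agent.Lib.H13.FTTR23

set_option autoImplicit false
set_option maxRecDepth 100000

namespace Cfsg.Agent.Lib.H17.FT24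

open Cfsg.Agent.Lib.H17.Fi24S Cfsg.Agent.Lib.H6.FiIndex Cfsg.Agent.Lib.H17.FT MulAction

attribute [local instance] Cfsg.Agent.Lib.H17.Fi24S.actInst

/-- the transpositions commuting with `l`, other than `l` -/
def Dd : Set G := {y : G | y ∈ conjugatesOf T24.zel ∧ y ≠ T24.t z0 ∧ Commute (T24.t z0) y}

theorem mem_H_iff (g : G) : g ∈ H ↔ g • z0 = z0 := ⟨phi_H g, H_index.2 g⟩

theorem E2_ne_E0 : E 2 ≠ E 0 := fun h => phi_E2_ne_phi_E0 (by rw [h])

theorem not_comm01 : ¬ (E 0 * E 1 = E 1 * E 0) := by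
  intro h
  apply not_comm
  rw [t_z, t_x2]
  exact h

/-- the members of `Dd` are the `H`-conjugates of `a` -/
theorem mem_Dd_iff (y : G) : y ∈ Dd ↔ ∃ h ∈ H, y = h * E 2 * h⁻¹ := by
  unfold Dd
  rw [Set.mem_ofPred_eq, t_z]
  constructor
  · rintro ⟨h1, hne, hc⟩
    obtain ⟨g, rfl⟩ := isConj_iff.mp h1
    rcases conj_cases g with hg | ⟨h, hh, e⟩ | ⟨h, hh, e⟩
    · exfalso
      apply hne
      show g * E 0 * g⁻¹ = E 0
      rw [comm_of_smul g hg]; group
    · exact ⟨h, (mem_H_iff h).mpr hh, e⟩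
    · exfalso
      apply not_comm01
      have hc' : E 0 * (g * T24.zel * g⁻¹) = (g * T24.zel * g⁻¹) * E 0 := hc
      have e' : g * T24.zel * g⁻¹ = h * E 1 * h⁻¹ := e
      rw [e'] at hc'
      have c1 := comm_of_smul h hh
      have c2 : h⁻¹ * E 0 = E 0 * h⁻¹ := by
        calc h⁻¹ * E 0 = h⁻¹ * (E 0 * h) * h⁻¹ := by group
          _ = h⁻¹ * (h * E 0) * h⁻¹ := by rw [c1]
          _ = E 0 * h⁻¹ := by group
      calc E 0 * E 1 = h⁻¹ * (h * E 0) * E 1 := by group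
        _ = h⁻¹ * (E 0 * h) * E 1 * (h⁻¹ * h) := by rw [c1]; group
        _ = h⁻¹ * (E 0 * (h * E 1 * h⁻¹)) * h := by group
        _ = h⁻¹ * ((h * E 1 * h⁻¹) * E 0) * h := by rw [hc']
        _ = E 1 * (h⁻¹ * E 0) * h := by group
        _ = E 1 * (E 0 * h⁻¹) * h := by rw [c2]
        _ = E 1 * E 0 := by group
  · rintro ⟨h, hh, rfl⟩
    have hh' := (mem_H_iff h).mp hh
    have c1 := comm_of_smul h hh'
    have c2 : h⁻¹ * E 0 = E 0 * h⁻¹ := by
      calc h⁻¹ * E 0 = h⁻¹ * (E 0 * h) * h⁻¹ := by group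
        _ = h⁻¹ * (h * E 0) * h⁻¹ := by rw [c1]
        _ = E 0 * h⁻¹ := by group
    refine ⟨?_, ?_, ?_⟩
    · have : h * E 2 * h⁻¹ = T24.t (h • x6) := by rw [T24.t_smul, t_x6]
      rw [this]
      exact T24.t_mem _
    · intro e
      apply E2_ne_E0
      calc E 2 = h⁻¹ * (h * E 2 * h⁻¹) * h := by group
        _ = h⁻¹ * E 0 * h := by rw [e]
        _ = E 0 * h⁻¹ * h := by rw [c2]
        _ = E 0 := by group
    · show E 0 * (h * E 2 * h⁻¹) = (h * E 2 * h⁻¹) * E 0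
      have c3 : E 2 * E 0 = E 0 * E 2 := comm_c 2 (by norm_num) (by norm_num)
      calc E 0 * (h * E 2 * h⁻¹) = (E 0 * h) * E 2 * h⁻¹ := by group
        _ = h * (E 0 * E 2) * h⁻¹ := by rw [← c1]; group
        _ = h * E 2 * (E 0 * h⁻¹) := by rw [← c3]; group
        _ = h * E 2 * (h⁻¹ * E 0) := by rw [c2]
        _ = h * E 2 * h⁻¹ * E 0 := by group

set_option maxRecDepth 1000000 in
theorem T_ne : ∀ x < 12, 2 ≤ x → Cfsg.Agent.Lib.H6.FiPerm.T x 1 ≠ 2 := by
  decide +kernel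

theorem E_ne_E0 (x : ℕ) (hx : x < 12) (h2 : 2 ≤ x) : E x ≠ E 0 := by
  intro h
  have h1 := smul_val x hx ⟨1, by norm_num⟩
  have h0 := smul_val 0 (by norm_num) ⟨1, by norm_num⟩
  rw [h, h0] at h1
  exact T_ne x hx h2 (h1.symm.trans T_vals'.2.1)

theorem E_mem_Dd (x : ℕ) (hx : x < 12) (h2 : 2 ≤ x) : E x ∈ Dd := by
  unfold Dd
  rw [Set.mem_ofPred_eq, t_z]
  refine ⟨?_, E_ne_E0 x hx h2, (comm_c x h2 hx).symm⟩
  obtain ⟨g, hg⟩ := conj_all (E x) ⟨x, hx, rfl⟩
  exact isConj_iff.mpr ⟨g, hg⟩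

theorem ew_mem (K : Subgroup G) (w : List ℕ) (hw : ∀ x ∈ w, E x ∈ K) : ew w ∈ K := by
  induction w with
  | nil => rw [ew_nil]; exact one_mem _
  | cons x w ih =>
    rw [ew_cons]
    exact mul_mem (hw x List.mem_cons_self) (ih fun y hy => hw y (List.mem_cons_of_mem _ hy))

theorem closure_Dd : Subgroup.closure Dd = H := by
  apply le_antisymm
  · rw [Subgroup.closure_le]
    intro y hy
    obtain ⟨h, hh, rfl⟩ := (mem_Dd_iff y).mp hy
    exact mul_mem (mul_mem hh (E_mem_H 2 (by norm_num) (by norm_num))) (inv_mem hh)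
  · unfold H
    rw [Subgroup.closure_le]
    rintro _ ⟨x, h1, h2, rfl⟩
    by_cases h0 : x = 0
    · subst h0
      show E 0 ∈ Subgroup.closure Dd
      rw [← ew_u]
      apply ew_mem
      intro x hx
      have hx' : x < 12 ∧ 2 ≤ x := by
        have : ∀ y ∈ (List.replicate 9 [2, 3, 4, 5, 6, 7, 10]).flatten, y < 12 ∧ 2 ≤ y := by decide
        exact this x hx
      exact Subgroup.subset_closure (E_mem_Dd x hx'.1 hx'.2)
    · exact Subgroup.subset_closure (E_mem_Dd x h1 (by omega))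

/-! ## the quotient by the centre -/

/-- the embedding of Fi23 into `H` -/
noncomputable def θH : G23 →* H := θ₀.codRestrict H (fun y => H₀_le_H ⟨y, rfl⟩)

theorem θH_val (y : G23) : ((θH y : H) : G) = θ₀ y := rfl

theorem E0_mem_center : (⟨E 0, E_mem_H 0 (by norm_num) (by norm_num)⟩ : H) ∈ Subgroup.center H := by
  rw [Subgroup.mem_center_iff]
  intro g
  apply Subtype.ext
  exact c_comm_H g.1 g.2

/-- the homomorphism from the presented Fi23 to `H / Z(H)` -/
noncomputable def ψ : G23 →* H ⧸ Subgroup.center H := (QuotientGroup.mk' (Subgroup.center H)).comp θH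

theorem ψ_bij : Function.Bijective ψ := by
  constructor
  · rw [← MonoidHom.ker_eq_bot_iff, Subgroup.eq_bot_iff_forall]
    intro y hy
    have h1 : θH y ∈ Subgroup.center H := by
      have : (QuotientGroup.mk (θH y) : H ⧸ Subgroup.center H) = 1 := hy
      exact (QuotientGroup.eq_one_iff _).mp this
    have hyc : y ∈ Subgroup.center G23 := by
      rw [Subgroup.mem_center_iff]
      intro z
      apply θ₀_injective
      rw [map_mul, map_mul]
      have := Subgroup.mem_center_iff.mp h1 (θH z)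
      exact congrArg Subtype.val this
    rw [center23, Subgroup.mem_bot] at hyc
    exact hyc
  · intro q
    obtain ⟨h, rfl⟩ := QuotientGroup.mk_surjective q
    rcases H_split h.1 h.2 with hm | hm
    · obtain ⟨y, hy⟩ := hm
      refine ⟨y, ?_⟩
      show QuotientGroup.mk (θH y) = QuotientGroup.mk h
      congr 1
      exact Subtype.ext hy
    · obtain ⟨y, hy⟩ := hm
      refine ⟨y, ?_⟩
      show (QuotientGroup.mk (θH y) : H ⧸ Subgroup.center H) = QuotientGroup.mk h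
      rw [QuotientGroup.eq]
      have : (θH y)⁻¹ * h = ⟨E 0, E_mem_H 0 (by norm_num) (by norm_num)⟩ := by
        apply Subtype.ext
        show (θ₀ y)⁻¹ * h.1 = E 0
        rw [hy, mul_inv_rev, E_inv]
        group
      rw [this]
      exact E0_mem_center

/-- the isomorphism from the presented Fi23 -/
noncomputable def ε : G23 ≃* H ⧸ Subgroup.center H := MulEquiv.ofBijective ψ ψ_bij

/-- the generator `a` as an element of `H` -/
noncomputable def aH : H := ⟨E 2, E_mem_H 2 (by norm_num) (by norm_num)⟩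

theorem ε_a : ε (PresentedGroup.of (Cfsg.Agent.Lib.H17.Fi23Glue.gen 0)) = QuotientGroup.mk aH := by
  show (QuotientGroup.mk (θH _) : H ⧸ Subgroup.center H) = QuotientGroup.mk aH
  rw [QuotientGroup.eq]
  have : (θH (PresentedGroup.of (Cfsg.Agent.Lib.H17.Fi23Glue.gen 0)))⁻¹ * aH =
      ⟨E 0, E_mem_H 0 (by norm_num) (by norm_num)⟩ := by
    apply Subtype.ext
    show (θ₀ (PresentedGroup.of (Cfsg.Agent.Lib.H17.Fi23Glue.gen 0)))⁻¹ * E 2 = E 0
    rw [θ₀_of]
    show (E (0 + 2) * E 0)⁻¹ * E 2 = E 0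
    rw [mul_inv_rev, E_inv, E_inv]
    show E 0 * E 2 * E 2 = E 0
    rw [mul_assoc, E_mul_self, mul_one]
  rw [this]
  exact E0_mem_center

theorem conj_zel23 : conjugatesOf (Cfsg.Agent.Lib.H17.Fi23Simple.zel) =
    conjugatesOf (PresentedGroup.of (Cfsg.Agent.Lib.H17.Fi23Glue.gen 0) : G23) := by
  obtain ⟨g, hg⟩ := Cfsg.Agent.Lib.H17.Fi23Simple.conj_all
    (PresentedGroup.of (Cfsg.Agent.Lib.H17.Fi23Glue.gen 0)) ⟨0, by norm_num, rfl⟩
  exact IsConj.conjugatesOf_eq (isConj_iff.mpr ⟨g, hg⟩)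

theorem class_aH : conjugatesOf aH = {x : H | (x : G) ∈ Dd} := by
  ext x
  constructor
  · intro hx
    obtain ⟨c, rfl⟩ := isConj_iff.mp hx
    rw [Set.mem_ofPred_eq, mem_Dd_iff]
    exact ⟨c.1, c.2, rfl⟩
  · intro hx
    obtain ⟨h, hh, e⟩ := (mem_Dd_iff x.1).mp hx
    refine isConj_iff.mpr ⟨⟨h, hh⟩, ?_⟩
    apply Subtype.ext
    exact e.symm

theorem typeH : Cfsg.IsOfTypeM23 (H ⧸ Subgroup.center H)
    ((QuotientGroup.mk : H → H ⧸ Subgroup.center H) '' {x : H | (x : G) ∈ Dd}) := by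
  have h := Cfsg.Agent.Lib.H13.FT.isOfTypeM23_map ε Cfsg.Agent.Lib.H17.FT23.typeM23'
  rw [conj_zel23, Cfsg.Agent.Lib.H17.FT23.image_conjugatesOf, ε_a,
    ← Cfsg.Agent.Lib.H17.FT23.mk_image_conjugatesOf, class_aH] at h
  exact h

/-- the H-part of `IsOfTypeM24` for Fi24 -/
theorem hPart : Cfsg.IsOfTypeM23
    (↥(Subgroup.closure {y : G | y ∈ conjugatesOf T24.zel ∧ y ≠ T24.t z0 ∧ Commute (T24.t z0) y}) ⧸
      Subgroup.center ↥(Subgroup.closure {y : G | y ∈ conjugatesOf T24.zel ∧ y ≠ T24.t z0 ∧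
        Commute (T24.t z0) y}))
    ((QuotientGroup.mk : ↥(Subgroup.closure {y : G | y ∈ conjugatesOf T24.zel ∧ y ≠ T24.t z0 ∧
        Commute (T24.t z0) y}) → _) ''
      {x : ↥(Subgroup.closure {y : G | y ∈ conjugatesOf T24.zel ∧ y ≠ T24.t z0 ∧
        Commute (T24.t z0) y}) | (x : G) ∈ {y : G | y ∈ conjugatesOf T24.zel ∧ y ≠ T24.t z0 ∧
        Commute (T24.t z0) y}}) := by
  have key : ∀ K : Subgroup G, K = H → Cfsg.IsOfTypeM23 (K ⧸ Subgroup.center K)
      ((QuotientGroup.mk : K → K ⧸ Subgroup.center K) '' {x : K | (x : G) ∈ Dd}) := by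
    intro K hK
    subst hK
    exact typeH
  exact key _ closure_Dd

end Cfsg.Agent.Lib.H17.FT24
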