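/-
helper17, S5401: the L-part of Fi24 (permutation side).  The 3240 transpositions commuting with `l` and `k` form a rack
family in the subgroup they generate; the conjugation tables of the nine letters `b, …, i` and of one further
transposition are `FT24.rows`.
-/
import Cfsg.Agent.Lib.H17.FT.Fi24T
import Cfsg.Agent.Lib.H17.FT.Tab
import Cfsg.Agent.Lib.H17.FT.Fi24LData
import Cfsg.Agent.Lib.H17.PermActs

set_option autoImplicit false
set_option maxRecDepth 100000

namespace Cfsg.Agent.Lib.H17.FT24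

open Cfsg.Agent.Lib.H17.CosetCert Cfsg.Agent.Lib.H17.Fi24S Cfsg.Agent.Lib.H6.FiIndex
  Cfsg.Agent.Lib.H6.PermFast Cfsg.Agent.Lib.H17.FT Cfsg.Agent.Lib.H17.PermActs MulAction

attribute [local instance] Cfsg.Agent.Lib.H17.Fi24S.actInst

/-! ## words acting on points -/

/-- the image of a point under the element of a word -/
noncomputable def actW (w : List ℕ) (i : ℕ) : ℕ :=
  List.rec (motive := fun _ => ℕ) i
    (fun x _ ih => force ih fun j => Cfsg.Agent.Lib.H6.FiPerm.T x j) w

theorem actW_nil (i : ℕ) : actW [] i = i := rfl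

theorem actW_cons (x : ℕ) (w : List ℕ) (i : ℕ) :
    actW (x :: w) i = Cfsg.Agent.Lib.H6.FiPerm.T x (actW w i) := by
  show force (actW w i) (fun j => Cfsg.Agent.Lib.H6.FiPerm.T x j) = _
  rw [force_eq]

theorem ew_smul (w : List ℕ) (hw : ∀ x ∈ w, x < 12) (i : Fin n) :
    ((ew w • i : Fin n) : ℕ) = actW w i := by
  induction w with
  | nil => rw [ew_nil, one_smul]; rfl
  | cons x w ih =>
    rw [ew_cons, mul_smul, smul_val x (hw x List.mem_cons_self),
      ih (fun y hy => hw y (List.mem_cons_of_mem _ hy)), actW_cons]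

/-! ## the points -/

set_option maxHeartbeats 4000000 in
theorem pt_lt : ∀ j < 3240, lk 19 524288 ptTab j < 306936 := by
  have := allLt_sound (fun j => Nat.blt (lk 19 524288 ptTab j) 306936) 3240 (by decide +kernel)
  intro j hj
  exact (blt_iff _ _).mp (this j hj)

/-- the point of the `j`-th transposition -/
def pt (j : Fin 3240) : Fin n := ⟨lk 19 524288 ptTab j, pt_lt j j.2⟩

/-- index + 1 of a point, or 0 -/
noncomputable def ipt (y : ℕ) : ℕ := lkR 9 12 511 4095 iptT y

set_option maxHeartbeats 4000000 in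
theorem ipt_pt : ∀ j < 3240, ipt (lk 19 524288 ptTab j) = j + 1 := by
  have := allLt_sound (fun j => Nat.beq (ipt (lk 19 524288 ptTab j)) (j + 1)) 3240
    (by decide +kernel)
  intro j hj
  exact Nat.eq_of_beq_eq_true (this j hj)

theorem pt_inj : Function.Injective pt := by
  intro i j h
  have h1 := ipt_pt i i.2
  have h2 := ipt_pt j j.2
  have h3 : lk 19 524288 ptTab i = lk 19 524288 ptTab j := congrArg Fin.val h
  rw [h3, h2] at h1
  exact Fin.ext (by omega)

/-- the membership test for the points -/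
noncomputable def inJ (y : ℕ) : Bool :=
  Nat.beq (Cfsg.Agent.Lib.H6.FiPerm.T 0 y) y && Nat.beq (Cfsg.Agent.Lib.H6.FiPerm.T 1 y) y

theorem fix_iff (x : ℕ) (hx : x < 12) (y : Fin n) :
    (E x • y = y) ↔ Cfsg.Agent.Lib.H6.FiPerm.T x y = y := by
  rw [← smul_val x hx y, Fin.ext_iff]

theorem inJ_iff (y : Fin n) :
    inJ y = true ↔ (y ≠ z0 ∧ y ≠ x2 ∧ T24.t z0 • y = y ∧ T24.t x2 • y = y) := by
  rw [t_z, t_x2, fix_iff 0 (by norm_num), fix_iff 1 (by norm_num)]
  unfold inJ
  rw [Bool.and_eq_true, beq_iff, beq_iff]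
  constructor
  · rintro ⟨a, b⟩
    refine ⟨?_, ?_, a, b⟩
    · intro e
      rw [e] at b
      have : Cfsg.Agent.Lib.H6.FiPerm.T 1 0 = 1 := T_vals'.1
      change Cfsg.Agent.Lib.H6.FiPerm.T 1 0 = 0 at b
      omega
    · intro e
      rw [e] at a
      have : Cfsg.Agent.Lib.H6.FiPerm.T 0 2 = 1 := T_vals'.2.2.1
      change Cfsg.Agent.Lib.H6.FiPerm.T 0 2 = 2 at a
      omega
  · rintro ⟨_, _, a, b⟩
    exact ⟨a, b⟩

set_option maxHeartbeats 0 in
set_option maxRecDepth 1000000 in
theorem inJ_ipt : ∀ y < 306936, inJ y = true →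
    (ipt y ≠ 0 ∧ ipt y - 1 < 3240 ∧ lk 19 524288 ptTab (ipt y - 1) = y) := by
  have := allLt_sound (fun y => !(inJ y) ||
    (!(Nat.beq (ipt y) 0) && Nat.blt (ipt y - 1) 3240 &&
      Nat.beq (lk 19 524288 ptTab (ipt y - 1)) y)) 306936 (by decide +kernel)
  intro y hy hin
  obtain ⟨h1, h2, h3⟩ := and3 (bool_imp (this y hy) hin)
  rw [Bool.not_eq_true', beq_false_iff] at h1
  exact ⟨h1, (blt_iff _ _).mp h2, (beq_iff _ _).mp h3⟩

set_option maxHeartbeats 4000000 in
set_option maxRecDepth 1000000 in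
theorem inJ_pt : ∀ j < 3240, inJ (lk 19 524288 ptTab j) = true := by
  apply allLt_sound (fun j => inJ (lk 19 524288 ptTab j))
  decide +kernel

theorem pt_range (y : Fin n) :
    (y ≠ z0 ∧ y ≠ x2 ∧ T24.t z0 • y = y ∧ T24.t x2 • y = y) ↔ ∃ j, pt j = y := by
  rw [← inJ_iff]
  constructor
  · intro h
    obtain ⟨_, h2, h3⟩ := inJ_ipt y y.2 h
    exact ⟨⟨_, h2⟩, Fin.ext h3⟩
  · rintro ⟨j, rfl⟩
    exact inJ_pt j j.2

/-! ## the tables -/

set_option maxHeartbeats 4000000 in
theorem good_rows : ∀ t ∈ rows, Good 12 4096 3240 t := by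
  have : ∀ t ∈ rows, checkRange 12 4096 t 3240 3240 = true ∧ checkWord 12 4096 [t, t] 3240 = true := by
    decide +kernel
  intro t ht
  exact good_of_checks 12 4096 3240 t (this t ht).1 (this t ht).2

/-- the generating indices: the nine letters and one transposition of another block -/
def SL : Set (Fin 3240) := {s | s.val < 9 ∨ s.val = 2160}

/-- the table permutations -/
noncomputable def sigL (s : Fin 3240) : Equiv.Perm (Fin 3240) :=
  σ 12 4096 3240 (rows.getD (min s.val 9) 0)

theorem sigL_apply (s : Fin 3240) (j : Fin 3240) :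
    ((sigL s j : Fin 3240) : ℕ) = lk 12 4096 (rows.getD (min s.val 9) 0) j := by
  apply σ_apply 12 4096 3240 _ (good_rows _ _) j
  apply getD_mem
  have : rows.length = 10 := by decide
  omega

/-- words conjugating `l` to the letters -/
def cw : ℕ → List ℕ
  | 0 => []
  | 1 => [0, 1]
  | 2 => [1, 2, 0, 1]
  | 3 => [2, 3, 1, 2, 0, 1]
  | 4 => [3, 4, 2, 3, 1, 2, 0, 1]
  | 5 => [4, 5, 3, 4, 2, 3, 1, 2, 0, 1]
  | 6 => [5, 6, 4, 5, 3, 4, 2, 3, 1, 2, 0, 1]
  | 7 => [6, 7, 5, 6, 4, 5, 3, 4, 2, 3, 1, 2, 0, 1]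
  | 8 => [7, 8, 6, 7, 5, 6, 4, 5, 3, 4, 2, 3, 1, 2, 0, 1]
  | 9 => [8, 9, 7, 8, 6, 7, 5, 6, 4, 5, 3, 4, 2, 3, 1, 2, 0, 1]
  | 10 => [5, 10, 4, 5, 3, 4, 2, 3, 1, 2, 0, 1]
  | _ => [10, 11, 5, 10, 4, 5, 3, 4, 2, 3, 1, 2, 0, 1]

theorem conj_step (a b : ℕ) (w : List ℕ) (hw : ew w * E 0 * (ew w)⁻¹ = E a)
    (hb : [a, b, a, b, a, b] ∈ Cfsg.Agent.Lib.H6.FiGlue.relW) :
    ew (a :: b :: w) * E 0 * (ew (a :: b :: w))⁻¹ = E b := by
  rw [ew_cons, ew_cons]
  calc E a * (E b * ew w) * E 0 * (E a * (E b * ew w))⁻¹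
      = (E a * E b) * (ew w * E 0 * (ew w)⁻¹) * (E a * E b)⁻¹ := by group
    _ = E b := by rw [hw]; exact braid_eq a b hb

theorem cw_conj : ∀ x < 12, ew (cw x) * E 0 * (ew (cw x))⁻¹ = E x := by
  have c0 : ew (cw 0) * E 0 * (ew (cw 0))⁻¹ = E 0 := by
    show ew [] * E 0 * (ew [])⁻¹ = E 0
    rw [ew_nil]; group
  have c1 := conj_step 0 1 _ c0 (by decide)
  have c2 := conj_step 1 2 _ c1 (by decide)
  have c3 := conj_step 2 3 _ c2 (by decide)
  have c4 := conj_step 3 4 _ c3 (by decide)
  have c5 := conj_step 4 5 _ c4 (by decide)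
  have c6 := conj_step 5 6 _ c5 (by decide)
  have c7 := conj_step 6 7 _ c6 (by decide)
  have c8 := conj_step 7 8 _ c7 (by decide)
  have c9 := conj_step 8 9 _ c8 (by decide)
  have c10 := conj_step 5 10 _ c5 (by decide)
  have c11 := conj_step 10 11 _ c10 (by decide)
  intro x hx
  interval_cases x
  · exact c0
  · exact c1
  · exact c2
  · exact c3
  · exact c4
  · exact c5
  · exact c6
  · exact c7
  · exact c8
  · exact c9
  · exact c10
  · exact c11

theorem cw_lt : ∀ x < 12, ∀ y ∈ cw x, y < 12 := by decide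

theorem hW_lt : ∀ y ∈ hW, y < 12 := by decide

/-- the word of the transposition of the row `r` -/
def trW (r : ℕ) : List ℕ := if r < 9 then [r + 3] else hW ++ [0] ++ hW.reverse

theorem trW_lt : ∀ r < 10, ∀ y ∈ trW r, y < 12 := by decide

set_option maxRecDepth 1000000 in
theorem cw_smul : ∀ s < 9, actW (cw (s + 3)) 0 = lk 19 524288 ptTab s := by
  decide +kernel

set_option maxRecDepth 1000000 in
theorem hW_smul : actW hW 0 = lk 19 524288 ptTab 2160 := by
  decide +kernel

theorem t_pt (s : Fin 3240) (hs : s ∈ SL) : T24.t (pt s) = ew (trW (min s.val 9)) := by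
  rcases hs with hs | hs
  · have h : ew (cw (s.val + 3)) • z0 = pt s := by
      apply Fin.ext
      rw [ew_smul _ (cw_lt _ (by omega))]
      exact cw_smul s hs
    rw [T24.t_eq' _ _ h]
    have hm : min s.val 9 = s.val := by omega
    rw [hm]
    unfold trW
    rw [if_pos hs, ew_singleton]
    exact cw_conj _ (by omega)
  · have h : ew hW • z0 = pt s := by
      apply Fin.ext
      rw [ew_smul _ hW_lt]
      show actW hW 0 = lk 19 524288 ptTab s
      rw [hs]
      exact hW_smul
    rw [T24.t_eq' _ _ h]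
    have hm : min s.val 9 = 9 := by omega
    rw [hm]
    unfold trW
    rw [if_neg (by norm_num), ew_append, ew_append, ew_reverse, ew_singleton]
    rfl

set_option maxHeartbeats 0 in
set_option maxRecDepth 1000000 in
theorem tab_check : ∀ r < 10, ∀ j < 3240,
    actW (trW r) (lk 19 524288 ptTab j) = lk 19 524288 ptTab (lk 12 4096 (rows.getD r 0) j) := by
  decide +kernel

theorem htab : ∀ s ∈ SL, ∀ j, T24.t (pt s) • pt j = pt (sigL s j) := by
  intro s hs j
  have hr : min s.val 9 < 10 := by omega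
  apply Fin.ext
  rw [t_pt s hs, ew_smul _ (trW_lt _ hr)]
  show _ = lk 19 524288 ptTab (sigL s j : Fin 3240)
  rw [sigL_apply]
  exact tab_check _ hr j j.2

set_option maxHeartbeats 4000000 in
theorem conn_check : checkConn 12 4096 gr rows 3240 = true := by
  decide +kernel

theorem hconn : ∀ j : Fin 3240, ∃ π ∈ Subgroup.closure (sigL '' SL), ∃ s ∈ SL, π s = j := by
  have key := trans_of_conn 12 4096 3240 (by norm_num)
    (Subgroup.subtype (Subgroup.closure (sigL '' SL))) gr rows good_rows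
    (by
      intro t ht
      obtain ⟨i, hi, rfl⟩ := List.getElem_of_mem ht
      have hlen : rows.length = 10 := by decide
      have hi10 : i < 10 := by omega
      -- the index with row `i`
      let s : Fin 3240 := if i < 9 then ⟨i, by omega⟩ else ⟨2160, by norm_num⟩
      have hsS : s ∈ SL := by
        by_cases h9 : i < 9
        · left
          show (if i < 9 then (⟨i, by omega⟩ : Fin 3240) else ⟨2160, by norm_num⟩).val < 9
          rw [if_pos h9]
          exact h9
        · right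
          show (if i < 9 then (⟨i, by omega⟩ : Fin 3240) else ⟨2160, by norm_num⟩).val = 2160
          rw [if_neg h9]
      have hsm : min s.val 9 = i := by
        by_cases h9 : i < 9
        · have : s.val = i := by
            show (if i < 9 then (⟨i, by omega⟩ : Fin 3240) else ⟨2160, by norm_num⟩).val = i
            rw [if_pos h9]
          omega
        · have : s.val = 2160 := by
            show (if i < 9 then (⟨i, by omega⟩ : Fin 3240) else ⟨2160, by norm_num⟩).val = 2160
            rw [if_neg h9]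
          omega
      refine ⟨⟨sigL s, Subgroup.subset_closure ⟨s, hsS, rfl⟩⟩, ?_⟩
      show sigL s = _
      unfold sigL
      rw [hsm, List.getD_eq_getElem _ _ hi]) conn_check
  intro j
  obtain ⟨g, hg⟩ := key j
  exact ⟨g.1, g.2, ⟨0, by norm_num⟩, Or.inl (by norm_num), hg⟩

/-- the rack family of the 3240 transpositions -/
noncomputable def rackL : RackFam
    ↥(Subgroup.closure ({y : G | y ∈ conjugatesOf T24.zel ∧ y ≠ T24.t z0 ∧ Commute (T24.t z0) y} ∩
      {y : G | y ∈ conjugatesOf T24.zel ∧ y ≠ T24.t x2 ∧ Commute (T24.t x2) y}))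
    (Fin 3240) SL sigL :=
  T24.rackFamL z0 x2 SL sigL pt pt_inj pt_range htab hconn

end Cfsg.Agent.Lib.H17.FT24
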