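/-
helper17, S0473: a copy of the Held group inside `Fi₂₄`.  The seven generators of the presented `He` are sent to
explicit words in the letters of `Fi₂₄` (products of two, resp. four, commuting transpositions, found by computer);
a relator is trivial because it fixes the twelve points belonging to the letters (the centre of `Fi₂₄` is trivial).
-/
import Cfsg.Agent.Lib.H17.FT.Fi24L
import Cfsg.Agent.Lib.H17.HeOrd.Simple
import Cfsg.Prelude.Def_Sporadic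

set_option autoImplicit false
set_option maxRecDepth 100000

namespace Cfsg.Agent.Lib.H17.FT24

open Cfsg.Agent.Lib.H17.CosetCert Cfsg.Agent.Lib.H17.Fi24S Cfsg.Agent.Lib.H6.FiIndex
  Cfsg.Agent.Lib.H6.PermFast Cfsg.Agent.Lib.H17.FT Cfsg.Agent.Lib.H17.PermActs MulAction

attribute [local instance] Cfsg.Agent.Lib.H17.Fi24S.actInst

/-- the words of the seven generators `a, …, g` of `He` in the letters of `Fi₂₄` -/
def heW : ℕ → List ℕ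
  | 0 => [0, 1, 2, 0, 1, 0, 1, 0, 2, 1]
  | 1 => [11, 6, 7, 8, 5, 6, 7, 4, 5, 6, 3, 4, 5, 10, 9, 8, 7, 6, 5, 4, 3, 1, 2, 0, 1, 0, 1, 0, 2, 1, 3, 4, 5, 6, 7, 8, 9, 10, 5, 4, 3, 6, 5, 4, 7, 6, 5, 8, 7, 6, 11, 11, 6, 3, 4, 5, 10, 9, 7, 8, 6, 7, 4, 5, 6, 1, 2, 3, 4, 5, 10, 11, 8, 6, 7, 5, 6, 3, 4, 5, 10, 9, 8, 7, 6, 5, 4, 3, 2, 1, 0, 1, 2, 3, 4, 5, 6, 7, 8, 9, 10, 5, 4, 3, 6, 5, 7, 6, 8, 11, 10, 5, 4, 3, 2, 1, 6, 5, 4, 7, 6, 8, 7, 9, 10, 5, 4, 3, 6, 11]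
  | 2 => [11, 5, 10, 8, 6, 7, 5, 6, 4, 5, 10, 11, 8, 6, 7, 5, 6, 3, 4, 5, 10, 9, 8, 7, 6, 5, 4, 3, 1, 2, 0, 1, 0, 1, 0, 2, 1, 3, 4, 5, 6, 7, 8, 9, 10, 5, 4, 3, 6, 5, 7, 6, 8, 11, 10, 5, 4, 6, 5, 7, 6, 8, 10, 5, 11, 10, 5, 6, 4, 5, 10, 9, 7, 8, 6, 7, 5, 6, 4, 5, 10, 11, 4, 5, 6, 3, 4, 5, 10, 9, 8, 7, 6, 5, 4, 3, 1, 2, 0, 1, 0, 1, 0, 2, 1, 3, 4, 5, 6, 7, 8, 9, 10, 5, 4, 3, 6, 5, 4, 11, 10, 5, 4, 6, 5, 7, 6, 8, 7, 9, 10, 5, 4, 6, 5, 10]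
  | 3 => [0, 1, 2, 0, 1, 0, 1, 0, 2, 1, 11, 3, 4, 5, 10, 6, 7, 5, 6, 4, 5, 10, 11, 8, 7, 6, 4, 5, 10, 9, 8, 7, 6, 5, 4, 3, 1, 2, 0, 1, 0, 1, 0, 2, 1, 3, 4, 5, 6, 7, 8, 9, 10, 5, 4, 6, 7, 8, 11, 10, 5, 4, 6, 5, 7, 6, 10, 5, 4, 3, 11, 6, 4, 5, 10, 7, 8, 6, 7, 5, 6, 4, 5, 10, 11, 4, 5, 6, 3, 4, 5, 10, 9, 8, 7, 6, 5, 4, 3, 1, 2, 0, 1, 0, 1, 0, 2, 1, 3, 4, 5, 6, 7, 8, 9, 10, 5, 4, 3, 6, 5, 4, 11, 10, 5, 4, 6, 5, 7, 6, 8, 7, 10, 5, 4, 6]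
  | 4 => [0, 1, 2, 0, 1, 0, 1, 0, 2, 1, 11, 5, 10, 8, 6, 7, 5, 6, 4, 5, 10, 11, 8, 6, 7, 5, 6, 3, 4, 5, 10, 9, 8, 7, 6, 5, 4, 3, 1, 2, 0, 1, 0, 1, 0, 2, 1, 3, 4, 5, 6, 7, 8, 9, 10, 5, 4, 3, 6, 5, 7, 6, 8, 11, 10, 5, 4, 6, 5, 7, 6, 8, 10, 5, 11, 3, 4, 5, 6, 2, 3, 4, 5, 10, 11, 10, 7, 5, 6, 3, 4, 5, 10, 7, 8, 6, 7, 4, 5, 6, 3, 4, 5, 10, 11, 6, 7, 5, 6, 3, 4, 5, 10, 9, 8, 7, 6, 5, 4, 3, 1, 2, 0, 1, 0, 1, 0, 2, 1, 3, 4, 5, 6, 7, 8, 9, 10, 5, 4, 3, 6, 5, 7, 6, 11, 10, 5, 4, 3, 6, 5, 4, 7, 6, 8, 7, 10, 5, 4, 3, 6, 5, 7, 10, 11, 10, 5, 4, 3, 2, 6, 5, 4, 3]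
  | 5 => [0, 1, 2, 0, 1, 0, 1, 0, 2, 1, 5, 6, 7, 4, 5, 6, 3, 4, 5, 10, 9, 8, 7, 6, 5, 4, 3, 1, 2, 0, 1, 0, 1, 0, 2, 1, 3, 4, 5, 6, 7, 8, 9, 10, 5, 4, 3, 6, 5, 4, 7, 6, 5, 11, 4, 5, 10, 7, 8, 6, 7, 5, 6, 4, 5, 10, 11, 8, 6, 7, 5, 6, 3, 4, 5, 10, 9, 8, 7, 6, 5, 4, 3, 1, 2, 0, 1, 0, 1, 0, 2, 1, 3, 4, 5, 6, 7, 8, 9, 10, 5, 4, 3, 6, 5, 7, 6, 8, 11, 10, 5, 4, 6, 5, 7, 6, 8, 7, 10, 5, 4, 11]
  | _ => [0, 1, 2, 0, 1, 0, 1, 0, 2, 1, 11, 10, 5, 6, 3, 4, 5, 10, 7, 6, 5, 4, 3, 1, 2, 0, 1, 0, 1, 0, 2, 1, 3, 4, 5, 6, 7, 10, 5, 4, 3, 6, 5, 10, 11, 5, 10, 11, 5, 6, 7, 4, 5, 6, 3, 4, 5, 10, 9, 8, 7, 6, 5, 4, 3, 1, 2, 0, 1, 0, 1, 0, 2, 1, 3, 4, 5, 6, 7, 8, 9, 10, 5, 4, 3, 6, 5, 4, 7, 6, 5, 11, 10, 5]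

/-- an element fixing the twelve points of the letters is trivial -/
theorem eq_one_of_fix (g : G) (h : ∀ x < 12, g • (ew (cw x) • z0) = ew (cw x) • z0) : g = 1 := by
  have hc : ∀ x < 12, g * E x = E x * g := by
    intro x hx
    have h1 := T24.t_smul g (ew (cw x) • z0)
    rw [h x hx] at h1
    have h2 : T24.t (ew (cw x) • z0) = E x :=
      (T24.t_eq' (ew (cw x)) (ew (cw x) • z0) rfl).trans (cw_conj x hx)
    rw [h2] at h1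
    calc g * E x = (g * E x * g⁻¹) * g := by group
      _ = E x * g := by rw [← h1]
  have hle : Subgroup.closure {y : G | ∃ x < 12, y = PresentedGroup.of (Cfsg.Agent.Lib.H6.FiGlue.gen x)} ≤
      Subgroup.centralizer {g} := by
    rw [Subgroup.closure_le]
    rintro y ⟨x, hx, rfl⟩
    rw [SetLike.mem_coe, Subgroup.mem_centralizer_iff]
    intro k hk
    rw [Set.mem_singleton_iff] at hk
    subst hk
    exact hc x hx
  rw [Cfsg.Agent.Lib.H6.FiGlue.closure_gens] at hle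
  have hcen : g ∈ Subgroup.center G := by
    rw [Subgroup.mem_center_iff]
    intro y
    have := hle (Subgroup.mem_top y)
    rw [Subgroup.mem_centralizer_iff] at this
    exact (this g rfl).symm
  rw [center_bot, Subgroup.mem_bot] at hcen
  exact hcen

/-- a word fixing the twelve points is trivial -/
theorem ew_eq_one (W : List ℕ) (hW : ∀ y ∈ W, y < 12)
    (h : ∀ x < 12, actW (W ++ cw x) 0 = actW (cw x) 0) : ew W = 1 := by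
  apply eq_one_of_fix
  intro x hx
  apply Fin.ext
  rw [← mul_smul, ← ew_append, ew_smul _ _ z0, ew_smul _ (cw_lt x hx) z0]
  · exact h x hx
  · intro y hy
    rcases List.mem_append.mp hy with hy | hy
    · exact hW y hy
    · exact cw_lt x hx y hy

set_option maxHeartbeats 4000000 in
theorem heW_lt : ∀ w ∈ Cfsg.Agent.Lib.H17.HeGlue.relW, ∀ y ∈ (w.map heW).flatten, y < 12 := by
  decide +kernel

set_option maxHeartbeats 4000000 in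
theorem heW_fix : ∀ w ∈ Cfsg.Agent.Lib.H17.HeGlue.relW, ∀ x < 12,
    actW ((w.map heW).flatten ++ cw x) 0 = actW (cw x) 0 := by
  decide +kernel

/-- the images of the generators of `He` -/
noncomputable def heF (u : Cfsg.Agent.Lib.H17.HeGlue.Gen) : G := ew (heW (Cfsg.Agent.Lib.H17.HeGlue.idx u))

theorem heF_prod (w : List ℕ) (hw : ∀ k ∈ w, k < 7) :
    ((w.map Cfsg.Agent.Lib.H17.HeGlue.gen).map heF).prod = ew ((w.map heW).flatten) := by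
  induction w with
  | nil => simp [ew_nil]
  | cons k w ih =>
    rw [List.map_cons, List.map_cons, List.prod_cons, List.map_cons, List.flatten_cons, ew_append,
      ih (fun j hj => hw j (List.mem_cons_of_mem _ hj))]
    congr 1
    have hk : k < 7 := hw k List.mem_cons_self
    interval_cases k <;> rfl

theorem relW_lt : ∀ w ∈ Cfsg.Agent.Lib.H17.HeGlue.relW, ∀ k ∈ w, k < 7 := by decide

theorem heF_relW : ∀ w ∈ Cfsg.Agent.Lib.H17.HeGlue.relW,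
    ((w.map Cfsg.Agent.Lib.H17.HeGlue.gen).map heF).prod = 1 := by
  intro w hw
  rw [heF_prod w (relW_lt w hw)]
  exact ew_eq_one _ (heW_lt w hw) (heW_fix w hw)

theorem heF_mul_self (u : Cfsg.Agent.Lib.H17.HeGlue.Gen) : heF u * heF u = 1 := by
  have h := heF_relW [Cfsg.Agent.Lib.H17.HeGlue.idx u, Cfsg.Agent.Lib.H17.HeGlue.idx u]
    (by cases u <;> decide)
  simp only [List.map_cons, List.map_nil, List.prod_cons, List.prod_nil, mul_one,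
    Cfsg.Agent.Lib.H17.HeGlue.gen_idx] at h
  exact h

/-- the homomorphism of the presented `He` into `Fi₂₄` -/
noncomputable def heHom : Cfsg.Agent.Lib.H17.HeOrd.G →* G :=
  PresentedGroup.toGroup (f := heF)
    (Cfsg.Agent.Lib.H17.HeGlue.lift_rels heF heF_mul_self heF_relW)

theorem heHom_of (u : Cfsg.Agent.Lib.H17.HeGlue.Gen) : heHom (PresentedGroup.of u) = heF u :=
  PresentedGroup.toGroup.of _

theorem heF_a_ne_one : heF .a ≠ 1 := by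
  intro h
  have h1 : (heF .a • (⟨2, by norm_num⟩ : Fin n) : Fin n) = ⟨2, by norm_num⟩ := by rw [h, one_smul]
  have h2 := congrArg Fin.val h1
  have h3 : ((heF .a • (⟨2, by norm_num⟩ : Fin n) : Fin n) : ℕ) = actW (heW 0) 2 :=
    ew_smul (heW 0) (by decide) ⟨2, by norm_num⟩
  rw [h3] at h2
  revert h2
  decide +kernel

theorem heHom_injective : Function.Injective heHom := by
  have := Cfsg.Agent.Lib.H17.HeSimple.simple
  rw [← MonoidHom.ker_eq_bot_iff]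
  rcases (MonoidHom.normal_ker heHom).eq_bot_or_eq_top with h | h
  · exact h
  · exfalso
    apply heF_a_ne_one
    rw [← heHom_of, ← MonoidHom.mem_ker, h]
    trivial

/-- the copy of `He` in `Fi₂₄` -/
noncomputable def heK : Subgroup G := heHom.range

theorem isHe_heK : Cfsg.IsHe heK := by
  have e : Cfsg.Agent.Lib.H17.HeOrd.G ≃* heK := MonoidHom.ofInjective heHom_injective
  have := Cfsg.Agent.Lib.H17.HeSimple.simple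
  refine ⟨e.symm.isSimpleGroup, ?_⟩
  rw [← Nat.card_congr e.toEquiv]
  exact Cfsg.Agent.Lib.H17.HeOrd.card_eq

theorem heK_le : heK ≤ commutator G := by
  have hperf : commutator Cfsg.Agent.Lib.H17.HeOrd.G = ⊤ := Cfsg.Agent.Lib.H17.HeSimple.perfect
  rw [heK, MonoidHom.range_eq_map, ← hperf, commutator_def, Subgroup.map_commutator]
  exact Subgroup.commutator_mono le_top le_top

end Cfsg.Agent.Lib.H17.FT24
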