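/-
helper17, S5401: the order of the subgroup of Fi24 generated by the transpositions commuting with `l` and `k` is at most
`|2 × Fi23| / 275264 = 6 |PΩ8+(3)|`: it fixes the two points of `l` and `k`, and the second lies in an orbit of length
`275264` of the stabiliser of the first (counted by the kernel).
-/
import Cfsg.Agent.Lib.H17.FT.Fi24L
import Cfsg.Agent.Lib.H17.FT.Cnt

set_option autoImplicit false
set_option maxRecDepth 100000

namespace Cfsg.Agent.Lib.H17.FT24

open Cfsg.Agent.Lib.H17.CosetCert Cfsg.Agent.Lib.H17.Fi24S Cfsg.Agent.Lib.H6.FiIndex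
  Cfsg.Agent.Lib.H17.FT MulAction

attribute [local instance] Cfsg.Agent.Lib.H17.Fi24S.actInst

/-- the subgroup generated by the transpositions commuting with `l` and `k` -/
abbrev LL : Subgroup G :=
  Subgroup.closure ({y : G | y ∈ conjugatesOf T24.zel ∧ y ≠ T24.t z0 ∧ Commute (T24.t z0) y} ∩
    {y : G | y ∈ conjugatesOf T24.zel ∧ y ≠ T24.t x2 ∧ Commute (T24.t x2) y})

/-- the test for the long suborbit -/
noncomputable def isO1 (i : ℕ) : Bool := Nat.beq (Nat.land (Lb i) 3) 1

set_option maxHeartbeats 0 in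
set_option maxRecDepth 1000000 in
theorem count_O1 : cntA isO1 0 306936 0 = 275264 := by decide +kernel

theorem card_O1 : Nat.card {i : Fin n // isO1 i = true} = 275264 := by
  rw [card_subtype_eq]
  have h := card_filter_add isO1 0 306936
  rw [zero_add, count_O1] at h
  rw [h]
  simp

theorem mem_O1 (i : Fin n) (h : isO1 i = true) : i ∈ O 1 := Nat.eq_of_beq_eq_true h

theorem x2_mem_O1 : x2 ∈ O 1 := T_vals'.2.2.2.2.2.1

/-- the stabiliser of the two points -/
noncomputable def K : Subgroup G := MulAction.stabilizer G z0 ⊓ MulAction.stabilizer G x2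

theorem smul_eq_of_comm (g : G) (x : Fin n) (h : Commute (T24.t x) g) : g • x = x := by
  apply T24.t_inj
  rw [T24.t_smul]
  have : T24.t x * g = g * T24.t x := h
  rw [← this]; group

theorem LL_le_K : LL ≤ K := by
  rw [Subgroup.closure_le]
  rintro y ⟨⟨_, _, h1⟩, ⟨_, _, h2⟩⟩
  exact ⟨smul_eq_of_comm y z0 h1, smul_eq_of_comm y x2 h2⟩

/-- an element of the point stabiliser moving the point of `k` to a given point of the long suborbit -/
noncomputable def cx (x : {i : Fin n // isO1 i = true}) : G :=
  Classical.choose (trans_O 1 x2 x2_mem_O1 x.1 (mem_O1 x.1 x.2))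

theorem cx_spec (x : {i : Fin n // isO1 i = true}) : cx x • z0 = z0 ∧ cx x • x2 = x.1 :=
  Classical.choose_spec (trans_O 1 x2 x2_mem_O1 x.1 (mem_O1 x.1 x.2))

theorem card_K_mul : Nat.card K * 275264 ≤ 8178940946586009600 := by
  have := finite_G
  rw [← card_O1, ← Nat.card_prod, ← card_H]
  let f : K × {i : Fin n // isO1 i = true} → H := fun p =>
    ⟨cx p.2 * p.1.1, H_index.2 _ (by
      show (cx p.2 * p.1.1) • z0 = z0
      rw [mul_smul, p.1.2.1, (cx_spec p.2).1])⟩
  apply Nat.card_le_card_of_injective f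
  rintro ⟨k, x⟩ ⟨k', x'⟩ h
  have h' : cx x * k.1 = cx x' * k'.1 := congrArg Subtype.val h
  have e1 : (cx x * k.1) • x2 = x.1 := by rw [mul_smul, k.2.2, (cx_spec x).2]
  have e2 : (cx x' * k'.1) • x2 = x'.1 := by rw [mul_smul, k'.2.2, (cx_spec x').2]
  have hx : x = x' := by
    apply Subtype.ext
    rw [← e1, ← e2, h']
  subst hx
  have hk : k = k' := Subtype.ext (mul_left_cancel h')
  rw [hk]

theorem card_LL_le : Nat.card LL ≤ 29713078886400 := by
  have := finite_G
  have h1 : Nat.card LL ≤ Nat.card K := Subgroup.card_le_of_le LL_le_K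
  have h2 := card_K_mul
  have e : (8178940946586009600 : ℕ) = 29713078886400 * 275264 := by norm_num
  rw [e] at h2
  exact h1.trans (Nat.le_of_mul_le_mul_right h2 (by norm_num))

end Cfsg.Agent.Lib.H17.FT24
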