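/-
helper17, S5401: the L-part of Fi24 (orthogonal side).  The 1080 reflections of norm 1 of the sum of eight squares over
the field with three elements form a rack family whose tables are the first nine of `FT24.rows`, restricted to the first
block of 1080 indices.
-/
import Cfsg.Agent.Lib.H17.FT.ReflRack
import Cfsg.Agent.Lib.H17.FT.SumSq
import Cfsg.Agent.Lib.H17.FT.Tab
import Cfsg.Agent.Lib.H17.FT.Fi24LData

set_option autoImplicit false
set_option maxRecDepth 100000

namespace Cfsg.Agent.Lib.H17.FT24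

open Cfsg.Agent.Lib.H17.CosetCert Cfsg.Agent.Lib.H17.FT

/-- the code of the `j`-th vector -/
def vc (j : ℕ) : ℕ := lk 13 8192 vcTab j

/-- the `j`-th vector -/
def vecN (j : ℕ) : Fin 8 → ZMod 3 := fun i => ((vc j / 3 ^ i.val % 3 : ℕ) : ZMod 3)

/-- the `j`-th vector -/
def vec (j : Fin 1080) : Fin 8 → ZMod 3 := vecN j

/-- the code of a vector -/
def codeOf (v : Fin 8 → ZMod 3) : ℕ := ∑ i : Fin 8, (v i).val * 3 ^ i.val

/-- index + 1 of the vector with a given code, up to sign, or 0 -/
def ic (c : ℕ) : ℕ := lk 11 2048 icTab c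

/-- the tables of the nine letters -/
def rows0 : List ℕ := rows.take 9

theorem rows0_length : rows0.length = 9 := by decide +kernel

theorem rows0_getD : ∀ s < 9, rows0.getD s 0 = rows.getD s 0 := by decide +kernel

set_option maxHeartbeats 0 in
theorem norm_check : ∀ j < 1080, ∑ i, vecN j i * vecN j i = 1 := by
  decide +kernel

set_option maxHeartbeats 0 in
theorem inj_check : ∀ j < 1080, ic (codeOf (vecN j)) = j + 1 ∧ ic (codeOf (-vecN j)) = j + 1 := by
  decide +kernel

set_option maxHeartbeats 0 in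
theorem tab_checkR : ∀ s < 9, ∀ j < 1080,
    vecN j - ((1 : ZMod 3)⁻¹ * (2 * ∑ i, vecN s i * vecN j i)) • vecN s =
        vecN (lk 12 4096 (rows0.getD s 0) j) ∨
    vecN j - ((1 : ZMod 3)⁻¹ * (2 * ∑ i, vecN s i * vecN j i)) • vecN s =
        -vecN (lk 12 4096 (rows0.getD s 0) j) := by
  decide +kernel

set_option maxHeartbeats 0 in
theorem cover_check : ∀ a b c d e f g h : ZMod 3,
    a * a + b * b + c * c + d * d + e * e + f * f + g * g + h * h = 1 →
      (ic (codeOf ![a, b, c, d, e, f, g, h]) ≠ 0 ∧ ic (codeOf ![a, b, c, d, e, f, g, h]) - 1 < 1080 ∧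
        (![a, b, c, d, e, f, g, h] = vecN (ic (codeOf ![a, b, c, d, e, f, g, h]) - 1) ∨
          ![a, b, c, d, e, f, g, h] = -vecN (ic (codeOf ![a, b, c, d, e, f, g, h]) - 1))) := by
  decide +kernel

theorem hnorm (j : Fin 1080) : sumSq 8 (vec j) = 1 := by
  rw [sumSq_apply]
  exact norm_check j j.2

theorem hinj (i j : Fin 1080) (h : vec i = vec j ∨ vec i = -vec j) : i = j := by
  have hi := inj_check i i.2
  have hj := inj_check j j.2
  apply Fin.ext
  rcases h with h | h
  · have h' : vecN i = vecN j := h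
    rw [h'] at hi
    have := hi.1.symm.trans hj.1
    omega
  · have h' : vecN i = -vecN j := h
    rw [h'] at hi
    have := hi.1.symm.trans hj.2
    omega

theorem hcover (v : Fin 8 → ZMod 3) (hv : sumSq 8 v = 1) : ∃ j, v = vec j ∨ v = -vec j := by
  have e : v = ![v 0, v 1, v 2, v 3, v 4, v 5, v 6, v 7] := by
    funext i; fin_cases i <;> rfl
  rw [sumSq_apply, Fin.sum_univ_eight] at hv
  obtain ⟨_, h2, h3⟩ := cover_check _ _ _ _ _ _ _ _ hv
  rw [← e] at h2 h3
  exact ⟨⟨_, h2⟩, h3⟩

set_option maxHeartbeats 4000000 in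
theorem good_rows0 : ∀ t ∈ rows0, Good 12 4096 1080 t := by
  have : ∀ t ∈ rows0, checkRange 12 4096 t 1080 1080 = true ∧ checkWord 12 4096 [t, t] 1080 = true := by
    decide +kernel
  intro t ht
  exact good_of_checks 12 4096 1080 t (this t ht).1 (this t ht).2

theorem htabR : ∀ s ∈ SS 1080 rows0, ∀ j,
    vec j - ((1 : ZMod 3)⁻¹ * QuadraticMap.polar (⇑(sumSq 8)) (vec s) (vec j)) • vec s =
        vec (sig 12 4096 1080 rows0 s j) ∨
    vec j - ((1 : ZMod 3)⁻¹ * QuadraticMap.polar (⇑(sumSq 8)) (vec s) (vec j)) • vec s =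
        -vec (sig 12 4096 1080 rows0 s j) := by
  intro s hs j
  have hs9 : s.val < 9 := by
    have : s.val < rows0.length := hs
    rwa [rows0_length] at this
  rw [sumSq_polar]
  have h := tab_checkR s hs9 j j.2
  have e : vec (sig 12 4096 1080 rows0 s j) = vecN (lk 12 4096 (rows0.getD s 0) j) := by
    unfold vec
    rw [sig_apply 12 4096 1080 rows0 good_rows0 s hs j]
  rw [e]
  exact h

set_option maxHeartbeats 4000000 in
theorem hconnR : ∀ j : Fin 1080, ∃ π ∈ Subgroup.closure (sig 12 4096 1080 rows0 '' SS 1080 rows0),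
    ∃ s ∈ SS 1080 rows0, π s = j :=
  conn_of_check 12 4096 1080 rows0 (by decide) (by rw [rows0_length]; decide)
    (by rw [rows0_length]; decide) good_rows0 gr0 (by decide +kernel)

/-- the rack family of the 1080 reflections -/
noncomputable def rackR : RackFam ↥(Cfsg.reflectionSubgroup (⇑(sumSq 8)) 1)
    (Fin 1080) (SS 1080 rows0) (sig 12 4096 1080 rows0) :=
  rackFamR (sumSq 8) 1 (by decide) (SS 1080 rows0) (sig 12 4096 1080 rows0) vec hnorm hinj hcover htabR hconnR

end Cfsg.Agent.Lib.H17.FT24
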