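/-
helper17, S5401: the L-part of Fi24.  `L / Z(L)` is the permutation group `Π` generated by the ten tables on the 3240
transpositions; it permutes the three blocks of 1080 as the symmetric group of degree three, and the kernel of the action
on the blocks is `PΩ8+(3)`, by an order squeeze against the reflection group of the sum of eight squares.
-/
import Cfsg.Agent.Lib.H17.FT.Fi24K
import Cfsg.Agent.Lib.H17.FT.Fi24R
import Cfsg.Agent.Lib.H25.FTBLK
import Cfsg.Agent.Lib.H20.FTKER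
import Cfsg.Agent.Lib.H20.FTRES
import Cfsg.Agent.Lib.H1.FTLIFT
import Cfsg.Agent.Lib.H5.FTSQ
import Cfsg.Agent.Lib.H5.FTCARD8
import Cfsg.Agent.Lib.H27.FTOM

set_option autoImplicit false
set_option maxRecDepth 100000

namespace Cfsg.Agent.Lib.H17.FT24

open Cfsg.Agent.Lib.H17.CosetCert Cfsg.Agent.Lib.H17.Fi24S Cfsg.Agent.Lib.H6.FiIndex
  Cfsg.Agent.Lib.H17.FT Cfsg.Agent.Lib.H17.PermActs MulAction

attribute [local instance] Cfsg.Agent.Lib.H17.Fi24S.actInst

/-- the permutation group generated by the ten tables -/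
abbrev PiL : Subgroup (Equiv.Perm (Fin 3240)) := Subgroup.closure (sigL '' SL)

/-! ## the blocks -/

/-- the block of an index -/
def blk (j : Fin 3240) : Fin 3 := ⟨j.val / 1080, by have := j.2; omega⟩

theorem blk_surj : Function.Surjective blk := by
  intro k
  refine ⟨⟨1080 * k.val, by have := k.2; omega⟩, ?_⟩
  apply Fin.ext
  show 1080 * k.val / 1080 = k.val
  omega

/-- the action of the rows on the blocks -/
def bperm (r k : ℕ) : ℕ := if r < 9 then [0, 2, 1].getD k 0 else [1, 0, 2].getD k 0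

set_option maxHeartbeats 4000000 in
theorem blk_check : ∀ r < 10, ∀ j < 3240,
    lk 12 4096 (rows.getD r 0) j / 1080 = bperm r (j / 1080) := by
  have := allLt_sound (fun j => allLt (fun r =>
    Nat.beq (lk 12 4096 (rows.getD r 0) j / 1080) (bperm r (j / 1080))) 10) 3240 (by decide +kernel)
  intro r hr j hj
  exact Nat.eq_of_beq_eq_true (allLt_sound _ 10 (this j hj) r hr)

/-- the permutation of the blocks induced by a generating index -/
def bet (s : Fin 3240) : Equiv.Perm (Fin 3) :=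
  if s.val < 9 then Equiv.swap 1 2 else Equiv.swap 0 1

theorem bet_val (s : Fin 3240) (k : Fin 3) : ((bet s k : Fin 3) : ℕ) = bperm (min s.val 9) k.val := by
  unfold bet bperm
  by_cases h : s.val < 9
  · have hm : min s.val 9 < 9 := by omega
    rw [if_pos h, if_pos hm]
    fin_cases k <;> rfl
  · have hm : ¬ min s.val 9 < 9 := by omega
    rw [if_neg h, if_neg hm]
    fin_cases k <;> rfl

theorem blk_sigL (s : Fin 3240) (j : Fin 3240) : blk (sigL s j) = bet s (blk j) := by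
  apply Fin.ext
  rw [bet_val]
  show (sigL s j).val / 1080 = _
  rw [sigL_apply]
  exact blk_check _ (by omega) j j.2

theorem exists_theta : ∃ θ : ↥PiL →* Equiv.Perm (Fin 3),
    ∀ (π : ↥PiL) (x : Fin 3240), blk ((π : Equiv.Perm (Fin 3240)) x) = θ π (blk x) := by
  apply Cfsg.Agent.Lib.H25.FT.exists_blockHom blk blk_surj
  rintro _ ⟨s, _, rfl⟩
  exact ⟨bet s, blk_sigL s⟩

/-- the action on the three blocks -/
noncomputable def θ : ↥PiL →* Equiv.Perm (Fin 3) := Classical.choose exists_theta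

theorem θ_spec (π : ↥PiL) (x : Fin 3240) : blk ((π : Equiv.Perm (Fin 3240)) x) = θ π (blk x) :=
  Classical.choose_spec exists_theta π x

theorem θ_eq (π : ↥PiL) (β : Equiv.Perm (Fin 3))
    (h : ∀ x, blk ((π : Equiv.Perm (Fin 3240)) x) = β (blk x)) : θ π = β := by
  ext k
  obtain ⟨x, rfl⟩ := blk_surj k
  rw [← θ_spec, h]

/-- a generating table as an element of the permutation group -/
noncomputable def sgen (s : Fin 3240) (hs : s ∈ SL) : ↥PiL := ⟨sigL s, Subgroup.subset_closure ⟨s, hs, rfl⟩⟩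

theorem θ_sgen (s : Fin 3240) (hs : s ∈ SL) : θ (sgen s hs) = bet s :=
  θ_eq _ _ (blk_sigL s)

theorem mem_SL_of_lt (s : Fin 3240) (h : s.val < 9) : s ∈ SL := Or.inl h

theorem mem_SL_2160 : (⟨2160, by norm_num⟩ : Fin 3240) ∈ SL := Or.inr rfl

theorem θ_surj : Function.Surjective θ := by
  intro π
  have h01 : Equiv.swap (0 : Fin 3) 1 ∈ θ.range :=
    ⟨sgen ⟨2160, by norm_num⟩ mem_SL_2160, by rw [θ_sgen]; rfl⟩
  have h12 : Equiv.swap (1 : Fin 3) 2 ∈ θ.range :=
    ⟨sgen ⟨0, by norm_num⟩ (mem_SL_of_lt _ (by norm_num)), by rw [θ_sgen]; rfl⟩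
  have hle : Subgroup.closure {Equiv.swap (0 : Fin 3) 1, Equiv.swap (1 : Fin 3) 2} ≤ θ.range := by
    rw [Subgroup.closure_le]
    rintro x (rfl | rfl)
    · exact h01
    · exact h12
  exact hle (perm3_gen π)

theorem sign_bet (s : Fin 3240) : Equiv.Perm.sign (bet s) = -1 := by
  unfold bet
  split
  · exact Equiv.Perm.sign_swap (by decide)
  · exact Equiv.Perm.sign_swap (by decide)

/-! ## the characters -/

/-- the quotient map followed by the rack isomorphism -/
noncomputable def qL : ↥LL →* ↥PiL :=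
  (rackL.quotEquiv.toMonoidHom).comp (QuotientGroup.mk' (Subgroup.center ↥LL))

theorem qL_val (a : ↥LL) : ((qL a : ↥PiL) : Equiv.Perm (Fin 3240)) = rackL.ρ a := rfl

theorem qL_surj : Function.Surjective qL :=
  rackL.quotEquiv.surjective.comp (QuotientGroup.mk'_surjective _)

theorem sign_θ_y (j : Fin 3240) : Equiv.Perm.sign (θ (qL (rackL.y j))) = -1 := by
  obtain ⟨π, hπ, s, hs, rfl⟩ := rackL.conn j
  have h1 := rackL.ρ_y_conj π hπ s
  rw [rackL.ρ_y s hs] at h1
  have e : qL (rackL.y (π s)) = ⟨π, hπ⟩ * sgen s hs * (⟨π, hπ⟩ : ↥PiL)⁻¹ := by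
    apply Subtype.ext
    rw [qL_val, h1]
    rfl
  rw [e, map_mul, map_mul, map_inv, map_mul, map_mul, map_inv, θ_sgen, sign_bet, mul_comm, ← mul_assoc,
    inv_mul_cancel, one_mul]

/-- the sign of the action on the blocks, with values in the units of the field -/
noncomputable def χL : ↥LL →* (ZMod 3)ˣ :=
  (Units.map (Int.castRingHom (ZMod 3)).toMonoidHom).comp (Equiv.Perm.sign.comp (θ.comp qL))

theorem units_map_neg_one :
    Units.map (Int.castRingHom (ZMod 3)).toMonoidHom (-1 : ℤˣ) = (-1 : (ZMod 3)ˣ) := by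
  apply Units.ext
  simp

theorem χL_y (j : Fin 3240) : χL (rackL.y j) = -1 := by
  show Units.map (Int.castRingHom (ZMod 3)).toMonoidHom (Equiv.Perm.sign (θ (qL (rackL.y j)))) = -1
  rw [sign_θ_y, units_map_neg_one]

theorem sign_eq_one_of_χL (a : ↥LL) (h : χL a = 1) : Equiv.Perm.sign (θ (qL a)) = 1 := by
  have h' : Units.map (Int.castRingHom (ZMod 3)).toMonoidHom (Equiv.Perm.sign (θ (qL a))) = 1 := h
  rcases Int.units_eq_one_or (Equiv.Perm.sign (θ (qL a))) with h1 | h1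
  · exact h1
  · exfalso
    rw [h1, units_map_neg_one] at h'
    revert h'
    decide

/-- the determinant on the reflection group -/
noncomputable def χR : ↥(Cfsg.reflectionSubgroup (⇑(sumSq 8)) (1 : ZMod 3)) →* (ZMod 3)ˣ :=
  (Cfsg.Agent.Lib.H11.SpinSign.detHom (sumSq 8)).comp (Subgroup.subtype _)

theorem χR_y (j : Fin 1080) : χR (rackR.y j) = -1 :=
  Cfsg.Agent.Lib.H11.SpinSign.detHom_reflEl (sumSq 8) (vec j) (by rw [hnorm j]; decide)

theorem omega_le : Cfsg.Omega (ZMod 3) (⇑(sumSq 8)) ≤ Cfsg.reflectionSubgroup (⇑(sumSq 8)) (1 : ZMod 3) :=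
  Cfsg.Agent.Lib.H27.FT.omega_le_reflectionSubgroup (sumSq 8) (sumSq_nondeg 8) (by norm_num)
    (by decide) (by norm_num) 1 (by decide)

theorem χR_omega (g : ↥(Cfsg.Omega (ZMod 3) (⇑(sumSq 8)))) : χR (Subgroup.inclusion omega_le g) = 1 := by
  have h := Abelianization.commutator_subset_ker (Cfsg.Agent.Lib.H11.SpinSign.detHom (sumSq 8)) g.2
  exact h

/-! ## the lift -/

/-- the inclusion of the first block -/
def ι : Fin 1080 → Fin 3240 := Fin.castLE (by norm_num)

theorem ι_val (j : Fin 1080) : (ι j).val = j.val := rfl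

theorem ι_inj : Function.Injective ι := Fin.castLE_injective _

theorem hS0 : ∀ s ∈ SS 1080 rows0, ι s ∈ SL := by
  intro s hs
  have : s.val < rows0.length := hs
  rw [rows0_length] at this
  exact Or.inl this

theorem hσ0 : ∀ s ∈ SS 1080 rows0, ∀ j, sigL (ι s) (ι j) = ι (sig 12 4096 1080 rows0 s j) := by
  intro s hs j
  have hs9 : s.val < 9 := by
    have : s.val < rows0.length := hs
    rwa [rows0_length] at this
  apply Fin.ext
  rw [sigL_apply, show (ι (sig 12 4096 1080 rows0 s j)).val = (sig 12 4096 1080 rows0 s j).val from rfl,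
    sig_apply 12 4096 1080 rows0 good_rows0 s hs j, rows0_getD s hs9]
  have hm : min (ι s).val 9 = s.val := by rw [ι_val]; omega
  rw [hm]
  rfl

theorem lift (g : ↥(Cfsg.reflectionSubgroup (⇑(sumSq 8)) (1 : ZMod 3))) :
    ∃ a : ↥LL, (∀ j, rackL.ρ a (ι j) = ι (rackR.ρ g j)) ∧ χL a = χR g :=
  Cfsg.Agent.Lib.H1.FT.lift_of_tables rackL rackR ι ι_inj hS0 hσ0 χL χR
    (fun j => by rw [χL_y, χR_y]) g

/-! ## the kernel of the action on the blocks -/

/-- the kernel as a group of permutations of the 3240 indices -/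
noncomputable def incE : ↥θ.ker →* Equiv.Perm (Fin 3240) :=
  (Subgroup.subtype PiL).comp (Subgroup.subtype θ.ker)

theorem blk_eq_zero_iff (j : Fin 3240) : blk j = 0 ↔ j.val < 1080 := by
  rw [Fin.ext_iff]
  show j.val / 1080 = 0 ↔ _
  have := j.2
  omega

theorem incE_inv (e : ↥θ.ker) (j : Fin 3240) (hj : j.val < 1080) : (incE e j).val < 1080 := by
  rw [← blk_eq_zero_iff]
  have h1 := θ_spec e.1 j
  have h2 : θ e.1 = 1 := e.2
  rw [h2, Equiv.Perm.one_apply, (blk_eq_zero_iff j).mpr hj] at h1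
  exact h1

theorem exists_rE : ∃ r : ↥θ.ker →* Equiv.Perm (Fin 1080), ∀ (e : ↥θ.ker) (j : Fin 1080),
    ((r e j : Fin 1080) : ℕ) = ((incE e (ι j) : Fin 3240) : ℕ) :=
  Cfsg.Agent.Lib.H20.FT.exists_restrictHom (by norm_num) incE incE_inv

/-- the restriction of the kernel to the first block -/
noncomputable def rE : ↥θ.ker →* Equiv.Perm (Fin 1080) := Classical.choose exists_rE

theorem rE_spec (e : ↥θ.ker) (j : Fin 1080) : ((rE e j : Fin 1080) : ℕ) = ((incE e (ι j) : Fin 3240) : ℕ) :=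
  Classical.choose_spec exists_rE e j

/-- the action of `Ω` on the 1080 reflections -/
noncomputable def fΩ : ↥(Cfsg.Omega (ZMod 3) (⇑(sumSq 8))) →* Equiv.Perm (Fin 1080) :=
  rackR.ρ.comp (Subgroup.inclusion omega_le)

theorem fΩ_ker : fΩ.ker ≤ Subgroup.center ↥(Cfsg.Omega (ZMod 3) (⇑(sumSq 8))) := by
  intro g hg
  have h1 : Subgroup.inclusion omega_le g ∈ rackR.ρ.ker := hg
  rw [rackR.ker_ρ, Subgroup.mem_center_iff] at h1
  rw [Subgroup.mem_center_iff]
  intro h
  have h2 := h1 (Subgroup.inclusion omega_le h)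
  rw [← map_mul, ← map_mul] at h2
  exact Subgroup.inclusion_injective omega_le h2

theorem fΩ_range : fΩ.range ≤ rE.range := by
  rintro _ ⟨g, rfl⟩
  obtain ⟨a, ha, hχ⟩ := lift (Subgroup.inclusion omega_le g)
  rw [χR_omega] at hχ
  have hsign := sign_eq_one_of_χL a hχ
  have hfix : θ (qL a) 0 = 0 := by
    have h1 := θ_spec (qL a) (ι 0)
    rw [qL_val, ha 0] at h1
    have e1 : blk (ι (rackR.ρ (Subgroup.inclusion omega_le g) 0)) = 0 :=
      (blk_eq_zero_iff _).mpr (by rw [ι_val]; exact Fin.is_lt _)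
    have e2 : blk (ι 0) = 0 := (blk_eq_zero_iff _).mpr (by rw [ι_val]; norm_num)
    rw [e1, e2] at h1
    exact h1.symm
  have hker : θ (qL a) = 1 := perm3_eq_one _ hfix hsign
  refine ⟨⟨qL a, hker⟩, ?_⟩
  ext j
  rw [rE_spec]
  show ((((qL a : ↥PiL) : Equiv.Perm (Fin 3240)) (ι j) : Fin 3240) : ℕ) = _
  rw [qL_val, ha j]
  rfl

/-! ## the order -/

theorem card_perm3 : Nat.card (Equiv.Perm (Fin 3)) = 6 := by
  rw [Nat.card_eq_fintype_card, Fintype.card_perm, Fintype.card_fin]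
  rfl

theorem card_ker_le : Nat.card ↥θ.ker ≤ 4952179814400 := by
  have := finite_G
  have h1 : Nat.card ↥PiL = Nat.card (↥PiL ⧸ θ.ker) * Nat.card ↥θ.ker :=
    Subgroup.card_eq_card_quotient_mul_card_subgroup θ.ker
  have h2 : Nat.card (↥PiL ⧸ θ.ker) = 6 := by
    rw [Nat.card_congr (QuotientGroup.quotientKerEquivOfSurjective θ θ_surj).toEquiv, card_perm3]
  have h3 : Nat.card ↥PiL ≤ Nat.card ↥LL := Nat.card_le_card_of_surjective qL qL_surj
  have h4 := card_LL_le
  rw [h2] at h1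
  omega

theorem ker_equiv : Nonempty (↥θ.ker ≃* Cfsg.POmega (ZMod 3) (⇑(sumSq 8))) := by
  apply Cfsg.Agent.Lib.H5.FT.squeeze rE fΩ fΩ_range fΩ_ker
  have h : Nat.card (↥(Cfsg.Omega (ZMod 3) (⇑(sumSq 8))) ⧸
      Subgroup.center ↥(Cfsg.Omega (ZMod 3) (⇑(sumSq 8)))) = 4952179814400 :=
    Cfsg.Agent.Lib.H5.FT.card_pOmega_sumSq8
  rw [h]
  exact card_ker_le

/-- **the L-part of `IsOfTypeM24` for Fi24** -/
theorem lPart : ∃ (N : Subgroup (↥LL ⧸ Subgroup.center ↥LL)) (_ : N.Normal),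
    Nonempty (↥N ≃* Cfsg.POmega (ZMod 3) (Cfsg.quadFormPlus 4 (ZMod 3))) ∧
    Nonempty ((↥LL ⧸ Subgroup.center ↥LL) ⧸ N ≃* Equiv.Perm (Fin 3)) := by
  obtain ⟨N, hN, ⟨e1⟩, ⟨e2⟩⟩ :=
    Cfsg.Agent.Lib.H20.FT.exists_normal_of_surjective rackL.quotEquiv θ θ_surj
  obtain ⟨e3⟩ := ker_equiv
  obtain ⟨e4⟩ := Cfsg.Agent.Lib.H5.FT.pOmega_plus_four_equiv_sumSq
  exact ⟨N, hN, ⟨(e1.trans e3).trans e4.symm⟩, ⟨e2⟩⟩

end Cfsg.Agent.Lib.H17.FT24
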