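/-
helper17, S5401: the presented Fi24 with its class of 306936 transpositions is of type M(24).
-/
import Cfsg.Agent.Lib.H17.FT.Fi24H
import Cfsg.Agent.Lib.H17.FT.Fi24N

set_option autoImplicit false
set_option maxRecDepth 100000

namespace Cfsg.Agent.Lib.H17.FT24

open Cfsg.Agent.Lib.H17.Fi24S Cfsg.Agent.Lib.H6.FiIndex Cfsg.Agent.Lib.H17.FT MulAction

attribute [local instance] Cfsg.Agent.Lib.H17.Fi24S.actInst

/-- **Fi24 is of type M(24).** -/
theorem typeM24 : Cfsg.IsOfTypeM24 G (conjugatesOf T24.zel) :=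
  ⟨center_bot, T24.t z0, T24.t_mem z0, T24.t x2, T24.t_mem x2, not_comm, hPart, lPart⟩

attribute [local instance] Cfsg.Agent.Lib.H17.Fi22Simple.actInst Cfsg.Agent.Lib.H17.Fi23Simple.actInst

/-- the presented Fi22 with its transpositions -/
theorem exists_M22 : ∃ E : Set Cfsg.Agent.Lib.H17.Fi22U62.G, Cfsg.IsThreeTranspositionClass E ∧
    Cfsg.IsPrimitiveUnderConj E ∧ Cfsg.IsOfTypeM22 Cfsg.Agent.Lib.H17.Fi22U62.G E :=
  ⟨_, Cfsg.Agent.Lib.H17.FT22.class22, Cfsg.Agent.Lib.H17.FT22.prim22, Cfsg.Agent.Lib.H17.FT22.typeM22⟩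

/-- the presented Fi23 with its transpositions -/
theorem exists_M23 : ∃ E : Set Cfsg.Agent.Lib.H17.Fi23Fi22.G, Cfsg.IsThreeTranspositionClass E ∧
    Cfsg.IsPrimitiveUnderConj E ∧ Cfsg.IsOfTypeM23 Cfsg.Agent.Lib.H17.Fi23Fi22.G E :=
  ⟨_, Cfsg.Agent.Lib.H17.FT23.class23, Cfsg.Agent.Lib.H17.FT23.prim23, Cfsg.Agent.Lib.H17.FT23.typeM23⟩

/-- the presented Fi24 with its transpositions -/
theorem exists_M24 : ∃ E : Set G, Cfsg.IsThreeTranspositionClass E ∧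
    Cfsg.IsPrimitiveUnderConj E ∧ Cfsg.IsOfTypeM24 G E :=
  ⟨_, class24, prim24, typeM24⟩

end Cfsg.Agent.Lib.H17.FT24
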